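import Mathlib.Data.Int.Notation
import Mathlib.Data.Nat.Notation
set_option linter.all false

/-!
# `2.Fi22` : the data of the faithful rows (helper35, generated by `tools/P3/h35/gen_dat.py`)
-/

set_option autoImplicit false
set_option maxRecDepth 100000

namespace Cfsg.Agent.MO.S.F22T

/-- the odd part of the row `1` of `Fi23` -/
def u1 : List ℤ := [.ofNat 352, .ofNat 0, .ofNat 32, .ofNat 0, .ofNat 1, .ofNat 28, .ofNat 10, .negSucc 7, .ofNat 8,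
    .ofNat 0, .ofNat 0, .ofNat 0, .ofNat 0, .ofNat 2, .negSucc 2, .ofNat 0, .ofNat 0, .ofNat 0, .ofNat 2, .ofNat 0,
    .negSucc 3, .ofNat 6, .ofNat 8, .ofNat 0, .ofNat 0, .ofNat 2, .ofNat 0, .ofNat 0, .ofNat 0, .ofNat 0, .ofNat 1,
    .ofNat 4, .negSucc 1, .ofNat 2, .ofNat 0, .ofNat 0, .negSucc 0, .ofNat 0, .ofNat 2, .ofNat 0, .ofNat 0, .ofNat 0,
    .ofNat 2, .ofNat 0, .ofNat 0, .ofNat 0, .ofNat 1, .ofNat 0, .ofNat 2, .ofNat 0, .ofNat 0, .ofNat 2, .ofNat 0,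
    .ofNat 0, .negSucc 0, .ofNat 0, .ofNat 0, .ofNat 0, .ofNat 0]

/-- its twist -/
def v1 : List ℤ := [.ofNat 352, .ofNat 0, .ofNat 32, .ofNat 0, .ofNat 1, .ofNat 28, .ofNat 10, .negSucc 7, .ofNat 8,
    .ofNat 0, .ofNat 0, .ofNat 0, .ofNat 0, .ofNat 2, .negSucc 2, .ofNat 0, .ofNat 0, .ofNat 0, .ofNat 2, .ofNat 0,
    .negSucc 3, .ofNat 6, .ofNat 8, .ofNat 0, .ofNat 0, .ofNat 2, .ofNat 0, .ofNat 0, .ofNat 0, .ofNat 0, .ofNat 1,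
    .ofNat 4, .negSucc 1, .ofNat 2, .ofNat 0, .ofNat 0, .negSucc 0, .ofNat 0, .ofNat 2, .ofNat 0, .ofNat 0, .ofNat 0,
    .ofNat 2, .ofNat 0, .ofNat 0, .ofNat 0, .ofNat 1, .ofNat 0, .ofNat 2, .ofNat 0, .ofNat 0, .ofNat 2, .ofNat 0,
    .ofNat 0, .negSucc 0, .ofNat 0, .ofNat 0, .ofNat 0, .ofNat 0]

/-- the odd part of the row `2` of `Fi23` -/
def u2 : List ℤ := [.ofNat 2080, .ofNat 0, .ofNat 96, .ofNat 384, .ofNat 1, .negSucc 25, .ofNat 19, .ofNat 64,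
    .ofNat 8, .ofNat 0, .ofNat 0, .ofNat 16, .ofNat 0, .ofNat 5, .negSucc 2, .ofNat 6, .ofNat 3, .ofNat 0, .ofNat 3,
    .negSucc 2, .ofNat 6, .negSucc 2, .ofNat 0, .negSucc 5, .ofNat 24, .ofNat 1, .ofNat 0, .ofNat 0, .ofNat 0,
    .ofNat 0, .ofNat 1, .negSucc 1, .ofNat 4, .ofNat 1, .negSucc 0, .negSucc 0, .negSucc 0, .negSucc 0, .negSucc 0,
    .ofNat 0, .ofNat 0, .ofNat 0, .negSucc 3, .ofNat 0, .negSucc 3, .ofNat 0, .ofNat 0, .ofNat 1, .negSucc 0,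
    .ofNat 0, .ofNat 0, .ofNat 0, .ofNat 0, .ofNat 1, .ofNat 1, .ofNat 1, .ofNat 0, .ofNat 0, .negSucc 0]

/-- its twist -/
def v2 : List ℤ := [.ofNat 2080, .ofNat 0, .ofNat 96, .negSucc 383, .ofNat 1, .negSucc 25, .ofNat 19, .ofNat 64,
    .ofNat 8, .ofNat 0, .ofNat 0, .negSucc 15, .ofNat 0, .ofNat 5, .negSucc 2, .negSucc 5, .negSucc 2, .ofNat 0,
    .ofNat 3, .ofNat 3, .ofNat 6, .negSucc 2, .ofNat 0, .ofNat 6, .negSucc 23, .ofNat 1, .ofNat 0, .ofNat 0, .ofNat 0,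
    .ofNat 0, .ofNat 1, .negSucc 1, .ofNat 4, .ofNat 1, .ofNat 1, .negSucc 0, .negSucc 0, .ofNat 1, .negSucc 0,
    .ofNat 0, .ofNat 0, .ofNat 0, .ofNat 2, .ofNat 0, .ofNat 4, .ofNat 0, .ofNat 0, .negSucc 0, .negSucc 0, .ofNat 0,
    .ofNat 0, .ofNat 0, .ofNat 0, .negSucc 0, .ofNat 1, .negSucc 0, .ofNat 0, .ofNat 0, .ofNat 1]

/-- the odd part of the row `7` of `Fi23` -/
def u7 : List ℤ := [.ofNat 48048, .ofNat 0, .ofNat 272, .negSucc 4927, .ofNat 15, .ofNat 96, .negSucc 2, .ofNat 546,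
    .ofNat 4, .ofNat 0, .ofNat 0, .negSucc 39, .ofNat 0, .negSucc 1, .ofNat 3, .ofNat 12, .negSucc 2, .ofNat 0,
    .ofNat 5, .negSucc 4, .negSucc 15, .ofNat 3, .negSucc 9, .ofNat 68, .ofNat 4, .ofNat 0, .ofNat 2, .ofNat 0,
    .ofNat 0, .ofNat 0, .ofNat 0, .ofNat 0, .ofNat 3, .ofNat 2, .ofNat 2, .ofNat 0, .ofNat 1, .ofNat 1, .ofNat 1,
    .ofNat 0, .negSucc 5, .ofNat 0, .negSucc 1, .ofNat 0, .negSucc 1, .ofNat 0, .ofNat 0, .ofNat 0, .ofNat 1,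
    .ofNat 0, .ofNat 2, .negSucc 0, .negSucc 0, .ofNat 0, .ofNat 0, .ofNat 0, .ofNat 0, .ofNat 0, .negSucc 0]

/-- its twist -/
def v7 : List ℤ := [.ofNat 48048, .ofNat 0, .ofNat 272, .ofNat 4928, .ofNat 15, .ofNat 96, .negSucc 2, .ofNat 546,
    .ofNat 4, .ofNat 0, .ofNat 0, .ofNat 40, .ofNat 0, .negSucc 1, .ofNat 3, .negSucc 11, .ofNat 3, .ofNat 0,
    .ofNat 5, .ofNat 5, .negSucc 15, .ofNat 3, .negSucc 9, .negSucc 67, .negSucc 3, .ofNat 0, .negSucc 1, .ofNat 0,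
    .ofNat 0, .ofNat 0, .ofNat 0, .ofNat 0, .ofNat 3, .ofNat 2, .negSucc 1, .ofNat 0, .ofNat 1, .negSucc 0, .ofNat 1,
    .ofNat 0, .negSucc 5, .ofNat 0, .negSucc 1, .ofNat 0, .ofNat 2, .ofNat 0, .ofNat 0, .ofNat 0, .ofNat 1, .ofNat 0,
    .negSucc 1, .negSucc 0, .ofNat 1, .ofNat 0, .ofNat 0, .ofNat 0, .ofNat 0, .ofNat 0, .ofNat 1]

/-- the odd part of the row `8` of `Fi23` -/
def u8 : List ℤ := [.ofNat 61776, .ofNat 0, .ofNat 496, .ofNat 6336, .ofNat 27, .ofNat 216, .ofNat 36, .ofNat 666,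
    .ofNat 12, .ofNat 0, .ofNat 0, .ofNat 56, .ofNat 0, .ofNat 1, .ofNat 3, .negSucc 23, .ofNat 6, .ofNat 0, .ofNat 4,
    .ofNat 18, .negSucc 7, .ofNat 12, .negSucc 1, .negSucc 71, .ofNat 36, .ofNat 1, .negSucc 1, .ofNat 0, .ofNat 0,
    .ofNat 0, .ofNat 0, .ofNat 3, .ofNat 6, .ofNat 1, .ofNat 1, .ofNat 0, .ofNat 3, .negSucc 1, .ofNat 0, .ofNat 0,
    .negSucc 5, .ofNat 0, .ofNat 0, .ofNat 0, .negSucc 1, .ofNat 0, .ofNat 0, .negSucc 0, .ofNat 1, .ofNat 0,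
    .negSucc 2, .negSucc 1, .ofNat 0, .ofNat 1, .ofNat 1, .ofNat 0, .ofNat 0, .ofNat 0, .ofNat 1]

/-- its twist -/
def v8 : List ℤ := [.ofNat 61776, .ofNat 0, .ofNat 496, .negSucc 6335, .ofNat 27, .ofNat 216, .ofNat 36, .ofNat 666,
    .ofNat 12, .ofNat 0, .ofNat 0, .negSucc 55, .ofNat 0, .ofNat 1, .ofNat 3, .ofNat 24, .negSucc 5, .ofNat 0,
    .ofNat 4, .negSucc 17, .negSucc 7, .ofNat 12, .negSucc 1, .ofNat 72, .negSucc 35, .ofNat 1, .ofNat 2, .ofNat 0,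
    .ofNat 0, .ofNat 0, .ofNat 0, .ofNat 3, .ofNat 6, .ofNat 1, .negSucc 0, .ofNat 0, .ofNat 3, .ofNat 2, .ofNat 0,
    .ofNat 0, .negSucc 5, .ofNat 0, .ofNat 0, .ofNat 0, .ofNat 2, .ofNat 0, .ofNat 0, .ofNat 1, .ofNat 1, .ofNat 0,
    .ofNat 3, .negSucc 1, .ofNat 0, .negSucc 0, .ofNat 1, .ofNat 0, .ofNat 0, .ofNat 0, .negSucc 0]

/-- the rows -/
def ru : List (List ℤ) := [
  [.ofNat 352, .ofNat 0, .ofNat 32, .ofNat 0, .ofNat 1, .ofNat 28, .ofNat 10, .negSucc 7, .ofNat 8, .ofNat 0,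
    .ofNat 0, .ofNat 0, .ofNat 0, .ofNat 2, .negSucc 2, .ofNat 0, .ofNat 0, .ofNat 0, .ofNat 2, .ofNat 0, .negSucc 3,
    .ofNat 6, .ofNat 8, .ofNat 0, .ofNat 0, .ofNat 2, .ofNat 0, .ofNat 0, .ofNat 0, .ofNat 0, .ofNat 1, .ofNat 4,
    .negSucc 1, .ofNat 2, .ofNat 0, .ofNat 0, .negSucc 0, .ofNat 0, .ofNat 2, .ofNat 0, .ofNat 0, .ofNat 0, .ofNat 2,
    .ofNat 0, .ofNat 0, .ofNat 0, .ofNat 1, .ofNat 0, .ofNat 2, .ofNat 0, .ofNat 0, .ofNat 2, .ofNat 0, .ofNat 0,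
    .negSucc 0, .ofNat 0, .ofNat 0, .ofNat 0, .ofNat 0],
  [.ofNat 2080, .ofNat 0, .ofNat 96, .negSucc 383, .ofNat 1, .negSucc 25, .ofNat 19, .ofNat 64, .ofNat 8, .ofNat 0,
    .ofNat 0, .negSucc 15, .ofNat 0, .ofNat 5, .negSucc 2, .negSucc 5, .negSucc 2, .ofNat 0, .ofNat 3, .ofNat 3,
    .ofNat 6, .negSucc 2, .ofNat 0, .ofNat 6, .negSucc 23, .ofNat 1, .ofNat 0, .ofNat 0, .ofNat 0, .ofNat 0, .ofNat 1,
    .negSucc 1, .ofNat 4, .ofNat 1, .ofNat 1, .negSucc 0, .negSucc 0, .ofNat 1, .negSucc 0, .ofNat 0, .ofNat 0,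
    .ofNat 0, .ofNat 2, .ofNat 0, .ofNat 4, .ofNat 0, .ofNat 0, .negSucc 0, .negSucc 0, .ofNat 0, .ofNat 0, .ofNat 0,
    .ofNat 0, .negSucc 0, .ofNat 1, .negSucc 0, .ofNat 0, .ofNat 0, .ofNat 1],
  [.ofNat 2080, .ofNat 0, .ofNat 96, .ofNat 384, .ofNat 1, .negSucc 25, .ofNat 19, .ofNat 64, .ofNat 8, .ofNat 0,
    .ofNat 0, .ofNat 16, .ofNat 0, .ofNat 5, .negSucc 2, .ofNat 6, .ofNat 3, .ofNat 0, .ofNat 3, .negSucc 2, .ofNat 6,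
    .negSucc 2, .ofNat 0, .negSucc 5, .ofNat 24, .ofNat 1, .ofNat 0, .ofNat 0, .ofNat 0, .ofNat 0, .ofNat 1,
    .negSucc 1, .ofNat 4, .ofNat 1, .negSucc 0, .negSucc 0, .negSucc 0, .negSucc 0, .negSucc 0, .ofNat 0, .ofNat 0,
    .ofNat 0, .negSucc 3, .ofNat 0, .negSucc 3, .ofNat 0, .ofNat 0, .ofNat 1, .negSucc 0, .ofNat 0, .ofNat 0,
    .ofNat 0, .ofNat 0, .ofNat 1, .ofNat 1, .ofNat 1, .ofNat 0, .ofNat 0, .negSucc 0],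
  [.ofNat 13728, .ofNat 0, .ofNat 224, .negSucc 1407, .ofNat 12, .ofNat 120, .ofNat 39, .ofNat 120, .ofNat 8,
    .ofNat 0, .ofNat 0, .negSucc 15, .ofNat 0, .ofNat 3, .ofNat 0, .ofNat 12, .negSucc 2, .ofNat 0, .negSucc 0,
    .negSucc 12, .ofNat 8, .ofNat 9, .ofNat 8, .ofNat 4, .negSucc 39, .ofNat 1, .ofNat 0, .ofNat 0, .ofNat 0,
    .ofNat 0, .ofNat 0, .ofNat 3, .ofNat 3, .negSucc 0, .negSucc 2, .ofNat 0, .ofNat 2, .ofNat 1, .negSucc 0,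
    .ofNat 0, .ofNat 0, .ofNat 0, .ofNat 2, .ofNat 0, .ofNat 4, .ofNat 0, .ofNat 0, .ofNat 1, .ofNat 0, .ofNat 0,
    .ofNat 1, .negSucc 0, .ofNat 1, .negSucc 0, .ofNat 1, .ofNat 0, .ofNat 0, .ofNat 0, .ofNat 0],
  [.ofNat 13728, .ofNat 0, .ofNat 224, .ofNat 1408, .ofNat 12, .ofNat 120, .ofNat 39, .ofNat 120, .ofNat 8, .ofNat 0,
    .ofNat 0, .ofNat 16, .ofNat 0, .ofNat 3, .ofNat 0, .negSucc 11, .ofNat 3, .ofNat 0, .negSucc 0, .ofNat 13,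
    .ofNat 8, .ofNat 9, .ofNat 8, .negSucc 3, .ofNat 40, .ofNat 1, .ofNat 0, .ofNat 0, .ofNat 0, .ofNat 0, .ofNat 0,
    .ofNat 3, .ofNat 3, .negSucc 0, .ofNat 3, .ofNat 0, .ofNat 2, .negSucc 0, .negSucc 0, .ofNat 0, .ofNat 0,
    .ofNat 0, .ofNat 2, .ofNat 0, .negSucc 3, .ofNat 0, .ofNat 0, .negSucc 0, .ofNat 0, .ofNat 0, .negSucc 0,
    .negSucc 0, .negSucc 0, .ofNat 1, .ofNat 1, .ofNat 0, .ofNat 0, .ofNat 0, .ofNat 0],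
  [.ofNat 27456, .ofNat 0, .ofNat 448, .ofNat 0, .negSucc 2, .negSucc 83, .ofNat 60, .negSucc 119, .ofNat 16,
    .ofNat 0, .ofNat 0, .ofNat 0, .ofNat 0, .ofNat 6, .negSucc 2, .ofNat 0, .ofNat 0, .ofNat 0, .ofNat 4, .ofNat 0,
    .negSucc 19, .negSucc 11, .negSucc 7, .ofNat 0, .ofNat 0, .ofNat 2, .ofNat 0, .ofNat 0, .ofNat 0, .ofNat 0,
    .ofNat 0, .ofNat 0, .negSucc 5, .negSucc 1, .ofNat 0, .ofNat 0, .ofNat 1, .ofNat 0, .ofNat 4, .ofNat 0, .ofNat 0,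
    .ofNat 0, .negSucc 1, .ofNat 0, .ofNat 0, .ofNat 0, .ofNat 0, .ofNat 0, .ofNat 0, .ofNat 0, .ofNat 0, .negSucc 1,
    .ofNat 0, .ofNat 0, .negSucc 0, .ofNat 0, .ofNat 0, .ofNat 0, .ofNat 0],
  [.ofNat 48048, .ofNat 0, .ofNat 272, .negSucc 4927, .ofNat 15, .ofNat 96, .negSucc 2, .ofNat 546, .ofNat 4,
    .ofNat 0, .ofNat 0, .negSucc 39, .ofNat 0, .negSucc 1, .ofNat 3, .ofNat 12, .negSucc 2, .ofNat 0, .ofNat 5,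
    .negSucc 4, .negSucc 15, .ofNat 3, .negSucc 9, .ofNat 68, .ofNat 4, .ofNat 0, .ofNat 2, .ofNat 0, .ofNat 0,
    .ofNat 0, .ofNat 0, .ofNat 0, .ofNat 3, .ofNat 2, .ofNat 2, .ofNat 0, .ofNat 1, .ofNat 1, .ofNat 1, .ofNat 0,
    .negSucc 5, .ofNat 0, .negSucc 1, .ofNat 0, .negSucc 1, .ofNat 0, .ofNat 0, .ofNat 0, .ofNat 1, .ofNat 0,
    .ofNat 2, .negSucc 0, .negSucc 0, .ofNat 0, .ofNat 0, .ofNat 0, .ofNat 0, .ofNat 0, .negSucc 0],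
  [.ofNat 48048, .ofNat 0, .ofNat 272, .ofNat 4928, .ofNat 15, .ofNat 96, .negSucc 2, .ofNat 546, .ofNat 4, .ofNat 0,
    .ofNat 0, .ofNat 40, .ofNat 0, .negSucc 1, .ofNat 3, .negSucc 11, .ofNat 3, .ofNat 0, .ofNat 5, .ofNat 5,
    .negSucc 15, .ofNat 3, .negSucc 9, .negSucc 67, .negSucc 3, .ofNat 0, .negSucc 1, .ofNat 0, .ofNat 0, .ofNat 0,
    .ofNat 0, .ofNat 0, .ofNat 3, .ofNat 2, .negSucc 1, .ofNat 0, .ofNat 1, .negSucc 0, .ofNat 1, .ofNat 0,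
    .negSucc 5, .ofNat 0, .negSucc 1, .ofNat 0, .ofNat 2, .ofNat 0, .ofNat 0, .ofNat 0, .ofNat 1, .ofNat 0,
    .negSucc 1, .negSucc 0, .ofNat 1, .ofNat 0, .ofNat 0, .ofNat 0, .ofNat 0, .ofNat 0, .ofNat 1],
  [.ofNat 123200, .ofNat 0, .ofNat 960, .ofNat 0, .negSucc 27, .ofNat 404, .ofNat 62, .negSucc 279, .ofNat 16,
    .ofNat 0, .ofNat 0, .ofNat 0, .ofNat 0, .ofNat 0, .ofNat 0, .ofNat 0, .ofNat 0, .ofNat 0, .ofNat 6, .ofNat 0,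
    .negSucc 11, .ofNat 18, .ofNat 24, .ofNat 0, .ofNat 0, .ofNat 0, .ofNat 0, .ofNat 0, .ofNat 0, .ofNat 0,
    .negSucc 0, .ofNat 2, .negSucc 3, .ofNat 0, .ofNat 0, .ofNat 0, .negSucc 1, .ofNat 0, .negSucc 1, .ofNat 0,
    .ofNat 0, .ofNat 0, .negSucc 1, .ofNat 0, .ofNat 0, .ofNat 0, .negSucc 0, .ofNat 0, .ofNat 0, .ofNat 0, .ofNat 0,
    .ofNat 0, .ofNat 0, .ofNat 0, .ofNat 0, .ofNat 0, .ofNat 0, .ofNat 0, .ofNat 0],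
  [.ofNat 133056, .ofNat 0, .negSucc 191, .ofNat 0, .ofNat 54, .negSucc 107, .negSucc 53, .ofNat 0, .ofNat 16,
    .ofNat 0, .ofNat 0, .ofNat 0, .ofNat 0, .ofNat 6, .ofNat 6, .ofNat 0, .ofNat 0, .ofNat 0, .negSucc 5, .ofNat 0,
    .negSucc 11, .ofNat 6, .ofNat 0, .ofNat 0, .ofNat 0, .ofNat 0, .ofNat 0, .ofNat 0, .ofNat 0, .ofNat 0, .ofNat 0,
    .ofNat 0, .ofNat 0, .negSucc 1, .ofNat 0, .ofNat 0, .negSucc 1, .ofNat 0, .negSucc 1, .ofNat 0, .ofNat 0,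
    .ofNat 0, .negSucc 1, .ofNat 0, .ofNat 0, .ofNat 0, .ofNat 1, .ofNat 0, .ofNat 0, .ofNat 0, .ofNat 0, .ofNat 0,
    .ofNat 0, .ofNat 0, .ofNat 0, .ofNat 0, .ofNat 0, .ofNat 0, .ofNat 0],
  [.ofNat 146432, .ofNat 0, .ofNat 1024, .negSucc 11263, .negSucc 15, .negSucc 15, .ofNat 56, .ofNat 776, .ofNat 0,
    .ofNat 0, .ofNat 0, .negSucc 63, .ofNat 0, .ofNat 7, .ofNat 0, .ofNat 0, .ofNat 0, .ofNat 0, .ofNat 4, .ofNat 4,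
    .ofNat 16, .ofNat 0, .negSucc 7, .ofNat 32, .negSucc 103, .negSucc 0, .ofNat 0, .ofNat 0, .ofNat 0, .ofNat 0,
    .negSucc 0, .negSucc 0, .ofNat 5, .negSucc 0, .ofNat 1, .ofNat 0, .ofNat 0, .negSucc 1, .ofNat 0, .ofNat 0,
    .ofNat 0, .ofNat 0, .ofNat 0, .ofNat 0, .ofNat 4, .ofNat 0, .ofNat 0, .ofNat 1, .ofNat 1, .ofNat 0, .negSucc 0,
    .ofNat 1, .negSucc 0, .ofNat 1, .negSucc 0, .ofNat 0, .ofNat 0, .ofNat 0, .ofNat 1],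
  [.ofNat 146432, .ofNat 0, .ofNat 1024, .ofNat 11264, .negSucc 15, .negSucc 15, .ofNat 56, .ofNat 776, .ofNat 0,
    .ofNat 0, .ofNat 0, .ofNat 64, .ofNat 0, .ofNat 7, .ofNat 0, .ofNat 0, .ofNat 0, .ofNat 0, .ofNat 4, .negSucc 3,
    .ofNat 16, .ofNat 0, .negSucc 7, .negSucc 31, .ofNat 104, .negSucc 0, .ofNat 0, .ofNat 0, .ofNat 0, .ofNat 0,
    .negSucc 0, .negSucc 0, .ofNat 5, .negSucc 0, .negSucc 0, .ofNat 0, .ofNat 0, .ofNat 2, .ofNat 0, .ofNat 0,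
    .ofNat 0, .ofNat 0, .ofNat 0, .ofNat 0, .negSucc 3, .ofNat 0, .ofNat 0, .negSucc 0, .ofNat 1, .ofNat 0, .ofNat 1,
    .ofNat 1, .ofNat 1, .negSucc 0, .negSucc 0, .ofNat 0, .ofNat 0, .ofNat 0, .negSucc 0],
  [.ofNat 228800, .ofNat 0, .ofNat 320, .ofNat 0, .ofNat 29, .ofNat 380, .negSucc 51, .negSucc 159, .ofNat 16,
    .ofNat 0, .ofNat 0, .ofNat 0, .ofNat 0, .ofNat 0, .negSucc 2, .ofNat 0, .ofNat 0, .ofNat 0, .negSucc 3, .ofNat 0,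
    .negSucc 3, .negSucc 11, .ofNat 32, .ofNat 0, .ofNat 0, .negSucc 1, .ofNat 0, .ofNat 0, .ofNat 0, .ofNat 0,
    .negSucc 0, .ofNat 2, .ofNat 2, .ofNat 0, .ofNat 0, .ofNat 0, .ofNat 1, .ofNat 0, .ofNat 4, .ofNat 0, .ofNat 0,
    .ofNat 0, .negSucc 1, .ofNat 0, .ofNat 0, .ofNat 0, .ofNat 0, .ofNat 0, .ofNat 0, .ofNat 0, .ofNat 0, .ofNat 2,
    .ofNat 0, .ofNat 0, .ofNat 1, .ofNat 0, .ofNat 0, .ofNat 0, .ofNat 0],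
  [.ofNat 235872, .ofNat 0, .ofNat 1056, .negSucc 8063, .ofNat 0, .negSucc 323, .ofNat 81, .ofNat 0, .ofNat 24,
    .ofNat 0, .ofNat 0, .negSucc 15, .ofNat 0, .negSucc 2, .ofNat 0, .negSucc 11, .ofNat 3, .ofNat 0, .negSucc 2,
    .ofNat 9, .ofNat 12, .negSucc 8, .ofNat 0, .negSucc 35, .negSucc 71, .ofNat 0, .ofNat 0, .ofNat 0, .ofNat 0,
    .ofNat 0, .ofNat 0, .ofNat 0, .ofNat 0, .ofNat 1, .ofNat 1, .ofNat 1, .ofNat 0, .ofNat 1, .negSucc 2, .ofNat 0,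
    .ofNat 0, .ofNat 0, .ofNat 0, .ofNat 0, .ofNat 4, .ofNat 0, .ofNat 0, .ofNat 0, .ofNat 0, .ofNat 0, .ofNat 0,
    .ofNat 0, .ofNat 0, .negSucc 0, .ofNat 0, .ofNat 1, .ofNat 0, .ofNat 0, .negSucc 1],
  [.ofNat 235872, .ofNat 0, .ofNat 1056, .ofNat 8064, .ofNat 0, .negSucc 323, .ofNat 81, .ofNat 0, .ofNat 24,
    .ofNat 0, .ofNat 0, .ofNat 16, .ofNat 0, .negSucc 2, .ofNat 0, .ofNat 12, .negSucc 2, .ofNat 0, .negSucc 2,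
    .negSucc 8, .ofNat 12, .negSucc 8, .ofNat 0, .ofNat 36, .ofNat 72, .ofNat 0, .ofNat 0, .ofNat 0, .ofNat 0,
    .ofNat 0, .ofNat 0, .ofNat 0, .ofNat 0, .ofNat 1, .negSucc 0, .ofNat 1, .ofNat 0, .negSucc 0, .negSucc 2,
    .ofNat 0, .ofNat 0, .ofNat 0, .ofNat 0, .ofNat 0, .negSucc 3, .ofNat 0, .ofNat 0, .ofNat 0, .ofNat 0, .ofNat 0,
    .ofNat 0, .ofNat 0, .ofNat 0, .ofNat 1, .ofNat 0, .negSucc 0, .ofNat 0, .ofNat 0, .ofNat 2],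
  [.ofNat 320320, .ofNat 0, .negSucc 575, .negSucc 9855, .negSucc 7, .negSucc 115, .ofNat 64, .ofNat 406, .ofNat 0,
    .ofNat 0, .ofNat 0, .ofNat 16, .ofNat 0, .negSucc 4, .ofNat 0, .negSucc 11, .negSucc 5, .ofNat 0, .ofNat 0,
    .negSucc 9, .negSucc 35, .ofNat 0, .ofNat 18, .ofNat 28, .ofNat 44, .ofNat 0, .ofNat 0, .ofNat 0, .ofNat 0,
    .ofNat 0, .ofNat 1, .negSucc 1, .ofNat 4, .negSucc 0, .negSucc 0, .ofNat 0, .ofNat 0, .ofNat 2, .ofNat 0,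
    .ofNat 0, .ofNat 6, .ofNat 0, .ofNat 0, .ofNat 0, .ofNat 2, .ofNat 0, .ofNat 0, .ofNat 0, .ofNat 1, .ofNat 0,
    .negSucc 1, .ofNat 0, .negSucc 1, .ofNat 1, .ofNat 0, .ofNat 0, .ofNat 0, .ofNat 0, .negSucc 0],
  [.ofNat 320320, .ofNat 0, .negSucc 575, .ofNat 9856, .negSucc 7, .negSucc 115, .ofNat 64, .ofNat 406, .ofNat 0,
    .ofNat 0, .ofNat 0, .negSucc 15, .ofNat 0, .negSucc 4, .ofNat 0, .ofNat 12, .ofNat 6, .ofNat 0, .ofNat 0,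
    .ofNat 10, .negSucc 35, .ofNat 0, .ofNat 18, .negSucc 27, .negSucc 43, .ofNat 0, .ofNat 0, .ofNat 0, .ofNat 0,
    .ofNat 0, .ofNat 1, .negSucc 1, .ofNat 4, .negSucc 0, .ofNat 1, .ofNat 0, .ofNat 0, .negSucc 1, .ofNat 0,
    .ofNat 0, .ofNat 6, .ofNat 0, .ofNat 0, .ofNat 0, .negSucc 1, .ofNat 0, .ofNat 0, .ofNat 0, .ofNat 1, .ofNat 0,
    .ofNat 2, .ofNat 0, .ofNat 2, .negSucc 0, .ofNat 0, .ofNat 0, .ofNat 0, .ofNat 0, .ofNat 1],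
  [.ofNat 400400, .ofNat 0, .ofNat 560, .negSucc 24639, .ofNat 17, .negSucc 63, .negSucc 36, .ofNat 1610, .negSucc 3,
    .ofNat 0, .ofNat 0, .negSucc 39, .ofNat 0, .ofNat 0, .negSucc 2, .negSucc 11, .ofNat 3, .ofNat 0, .negSucc 0,
    .negSucc 6, .negSucc 15, .negSucc 2, .ofNat 14, .ofNat 124, .ofNat 20, .ofNat 0, .negSucc 1, .ofNat 0, .ofNat 0,
    .ofNat 0, .negSucc 0, .negSucc 0, .negSucc 0, .ofNat 0, .ofNat 0, .ofNat 0, .negSucc 0, .ofNat 1, .negSucc 0,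
    .ofNat 0, .negSucc 5, .ofNat 0, .ofNat 2, .ofNat 0, .negSucc 1, .ofNat 0, .ofNat 0, .ofNat 0, .ofNat 0, .ofNat 0,
    .ofNat 1, .negSucc 0, .ofNat 1, .ofNat 0, .ofNat 0, .ofNat 0, .ofNat 0, .ofNat 0, .ofNat 0],
  [.ofNat 400400, .ofNat 0, .ofNat 560, .ofNat 24640, .ofNat 17, .negSucc 63, .negSucc 36, .ofNat 1610, .negSucc 3,
    .ofNat 0, .ofNat 0, .ofNat 40, .ofNat 0, .ofNat 0, .negSucc 2, .ofNat 12, .negSucc 2, .ofNat 0, .negSucc 0,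
    .ofNat 7, .negSucc 15, .negSucc 2, .ofNat 14, .negSucc 123, .negSucc 19, .ofNat 0, .ofNat 2, .ofNat 0, .ofNat 0,
    .ofNat 0, .negSucc 0, .negSucc 0, .negSucc 0, .ofNat 0, .ofNat 0, .ofNat 0, .negSucc 0, .negSucc 0, .negSucc 0,
    .ofNat 0, .negSucc 5, .ofNat 0, .ofNat 2, .ofNat 0, .ofNat 2, .ofNat 0, .ofNat 0, .ofNat 0, .ofNat 0, .ofNat 0,
    .negSucc 0, .negSucc 0, .negSucc 0, .ofNat 0, .ofNat 0, .ofNat 0, .ofNat 0, .ofNat 0, .ofNat 0],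
  [.ofNat 436800, .ofNat 0, .negSucc 319, .negSucc 17919, .negSucc 32, .ofNat 210, .negSucc 41, .ofNat 840, .ofNat 16,
    .ofNat 0, .ofNat 0, .ofNat 0, .ofNat 0, .ofNat 0, .ofNat 3, .ofNat 18, .ofNat 0, .ofNat 0, .negSucc 1, .ofNat 8,
    .negSucc 13, .negSucc 5, .negSucc 7, .ofNat 46, .ofNat 80, .ofNat 0, .ofNat 0, .ofNat 0, .ofNat 0, .ofNat 0,
    .ofNat 0, .ofNat 0, .negSucc 2, .ofNat 0, .ofNat 0, .negSucc 0, .ofNat 1, .ofNat 0, .negSucc 1, .ofNat 0,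
    .ofNat 0, .ofNat 0, .ofNat 4, .ofNat 0, .ofNat 0, .ofNat 0, .ofNat 0, .ofNat 0, .ofNat 0, .ofNat 0, .negSucc 1,
    .ofNat 1, .ofNat 1, .ofNat 0, .ofNat 0, .ofNat 1, .ofNat 0, .ofNat 0, .ofNat 0],
  [.ofNat 436800, .ofNat 0, .negSucc 319, .ofNat 17920, .negSucc 32, .ofNat 210, .negSucc 41, .ofNat 840, .ofNat 16,
    .ofNat 0, .ofNat 0, .ofNat 0, .ofNat 0, .ofNat 0, .ofNat 3, .negSucc 17, .ofNat 0, .ofNat 0, .negSucc 1,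
    .negSucc 7, .negSucc 13, .negSucc 5, .negSucc 7, .negSucc 45, .negSucc 79, .ofNat 0, .ofNat 0, .ofNat 0, .ofNat 0,
    .ofNat 0, .ofNat 0, .ofNat 0, .negSucc 2, .ofNat 0, .ofNat 0, .negSucc 0, .ofNat 1, .ofNat 0, .negSucc 1,
    .ofNat 0, .ofNat 0, .ofNat 0, .negSucc 1, .ofNat 0, .ofNat 0, .ofNat 0, .ofNat 0, .ofNat 0, .ofNat 0, .ofNat 0,
    .ofNat 2, .ofNat 1, .negSucc 0, .ofNat 0, .ofNat 0, .negSucc 0, .ofNat 0, .ofNat 0, .ofNat 0],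
  [.ofNat 480480, .ofNat 0, .ofNat 1696, .negSucc 9855, .ofNat 15, .negSucc 173, .ofNat 69, .negSucc 335, .negSucc 7,
    .ofNat 0, .ofNat 0, .ofNat 16, .ofNat 0, .ofNat 5, .ofNat 3, .negSucc 5, .negSucc 2, .ofNat 0, .ofNat 1,
    .negSucc 0, .negSucc 13, .ofNat 3, .ofNat 16, .negSucc 25, .negSucc 135, .ofNat 0, .ofNat 0, .ofNat 0, .ofNat 0,
    .ofNat 0, .ofNat 0, .negSucc 2, .negSucc 2, .ofNat 1, .negSucc 0, .ofNat 0, .ofNat 1, .negSucc 0, .ofNat 1,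
    .ofNat 0, .ofNat 0, .ofNat 0, .ofNat 4, .ofNat 0, .negSucc 3, .ofNat 0, .ofNat 0, .ofNat 0, .negSucc 0, .ofNat 0,
    .ofNat 1, .ofNat 1, .ofNat 1, .ofNat 1, .ofNat 0, .ofNat 0, .ofNat 0, .ofNat 0, .negSucc 0],
  [.ofNat 480480, .ofNat 0, .ofNat 1696, .ofNat 9856, .ofNat 15, .negSucc 173, .ofNat 69, .negSucc 335, .negSucc 7,
    .ofNat 0, .ofNat 0, .negSucc 15, .ofNat 0, .ofNat 5, .ofNat 3, .ofNat 6, .ofNat 3, .ofNat 0, .ofNat 1, .ofNat 1,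
    .negSucc 13, .ofNat 3, .ofNat 16, .ofNat 26, .ofNat 136, .ofNat 0, .ofNat 0, .ofNat 0, .ofNat 0, .ofNat 0,
    .ofNat 0, .negSucc 2, .negSucc 2, .ofNat 1, .ofNat 1, .ofNat 0, .ofNat 1, .ofNat 1, .ofNat 1, .ofNat 0, .ofNat 0,
    .ofNat 0, .negSucc 1, .ofNat 0, .ofNat 4, .ofNat 0, .ofNat 0, .ofNat 0, .negSucc 0, .ofNat 0, .negSucc 0,
    .ofNat 1, .negSucc 0, .negSucc 0, .ofNat 0, .ofNat 0, .ofNat 0, .ofNat 0, .ofNat 1],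
  [.ofNat 686400, .ofNat 0, .ofNat 960, .negSucc 28159, .negSucc 20, .ofNat 6, .ofNat 78, .ofNat 960, .negSucc 15,
    .ofNat 0, .ofNat 0, .ofNat 0, .ofNat 0, .ofNat 0, .ofNat 3, .ofNat 6, .negSucc 5, .ofNat 0, .negSucc 5, .ofNat 10,
    .ofNat 6, .negSucc 5, .ofNat 0, .ofNat 26, .negSucc 79, .ofNat 1, .ofNat 0, .ofNat 0, .ofNat 0, .ofNat 0,
    .ofNat 0, .ofNat 3, .ofNat 0, .ofNat 0, .ofNat 0, .ofNat 0, .negSucc 0, .ofNat 0, .ofNat 2, .ofNat 0, .ofNat 0,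
    .ofNat 0, .negSucc 3, .ofNat 0, .ofNat 0, .ofNat 0, .ofNat 0, .negSucc 0, .ofNat 0, .ofNat 0, .negSucc 0,
    .ofNat 0, .ofNat 2, .ofNat 0, .ofNat 1, .ofNat 0, .ofNat 0, .ofNat 0, .ofNat 0],
  [.ofNat 686400, .ofNat 0, .ofNat 960, .ofNat 28160, .negSucc 20, .ofNat 6, .ofNat 78, .ofNat 960, .negSucc 15,
    .ofNat 0, .ofNat 0, .ofNat 0, .ofNat 0, .ofNat 0, .ofNat 3, .negSucc 5, .ofNat 6, .ofNat 0, .negSucc 5,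
    .negSucc 9, .ofNat 6, .negSucc 5, .ofNat 0, .negSucc 25, .ofNat 80, .ofNat 1, .ofNat 0, .ofNat 0, .ofNat 0,
    .ofNat 0, .ofNat 0, .ofNat 3, .ofNat 0, .ofNat 0, .ofNat 0, .ofNat 0, .negSucc 0, .ofNat 0, .ofNat 2, .ofNat 0,
    .ofNat 0, .ofNat 0, .ofNat 2, .ofNat 0, .ofNat 0, .ofNat 0, .ofNat 0, .ofNat 1, .ofNat 0, .ofNat 0, .ofNat 1,
    .ofNat 0, .negSucc 1, .ofNat 0, .ofNat 1, .ofNat 0, .ofNat 0, .ofNat 0, .ofNat 0],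
  [.ofNat 915200, .ofNat 0, .ofNat 1280, .negSucc 28159, .ofNat 8, .ofNat 548, .ofNat 8, .ofNat 440, .ofNat 0,
    .ofNat 0, .ofNat 0, .ofNat 0, .ofNat 0, .ofNat 0, .ofNat 0, .ofNat 12, .ofNat 6, .ofNat 0, .negSucc 3,
    .negSucc 25, .ofNat 20, .ofNat 0, .ofNat 8, .negSucc 27, .negSucc 79, .negSucc 0, .ofNat 0, .ofNat 0, .ofNat 0,
    .ofNat 0, .ofNat 2, .negSucc 0, .negSucc 0, .ofNat 0, .ofNat 0, .ofNat 0, .ofNat 0, .ofNat 0, .ofNat 0, .ofNat 0,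
    .ofNat 0, .ofNat 0, .ofNat 0, .ofNat 0, .ofNat 0, .ofNat 0, .ofNat 0, .negSucc 0, .ofNat 0, .ofNat 0, .negSucc 0,
    .negSucc 0, .negSucc 0, .ofNat 0, .negSucc 0, .ofNat 0, .ofNat 0, .ofNat 0, .ofNat 0],
  [.ofNat 915200, .ofNat 0, .ofNat 1280, .ofNat 28160, .ofNat 8, .ofNat 548, .ofNat 8, .ofNat 440, .ofNat 0, .ofNat 0,
    .ofNat 0, .ofNat 0, .ofNat 0, .ofNat 0, .ofNat 0, .negSucc 11, .negSucc 5, .ofNat 0, .negSucc 3, .ofNat 26,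
    .ofNat 20, .ofNat 0, .ofNat 8, .ofNat 28, .ofNat 80, .negSucc 0, .ofNat 0, .ofNat 0, .ofNat 0, .ofNat 0, .ofNat 2,
    .negSucc 0, .negSucc 0, .ofNat 0, .ofNat 0, .ofNat 0, .ofNat 0, .ofNat 0, .ofNat 0, .ofNat 0, .ofNat 0, .ofNat 0,
    .ofNat 0, .ofNat 0, .ofNat 0, .ofNat 0, .ofNat 0, .ofNat 1, .ofNat 0, .ofNat 0, .ofNat 1, .negSucc 0, .ofNat 1,
    .ofNat 0, .negSucc 0, .ofNat 0, .ofNat 0, .ofNat 0, .ofNat 0],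
  [.ofNat 1029600, .ofNat 0, .ofNat 1440, .ofNat 0, .ofNat 9, .ofNat 252, .ofNat 90, .negSucc 719, .ofNat 8, .ofNat 0,
    .ofNat 0, .ofNat 0, .ofNat 0, .ofNat 0, .negSucc 2, .ofNat 0, .ofNat 0, .ofNat 0, .negSucc 5, .ofNat 0,
    .negSucc 35, .ofNat 6, .negSucc 47, .ofNat 0, .ofNat 0, .negSucc 1, .ofNat 0, .ofNat 0, .ofNat 0, .ofNat 0,
    .ofNat 0, .ofNat 0, .ofNat 0, .ofNat 0, .ofNat 0, .ofNat 0, .negSucc 0, .ofNat 0, .ofNat 2, .ofNat 0, .ofNat 0,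
    .ofNat 0, .ofNat 2, .ofNat 0, .ofNat 0, .ofNat 0, .ofNat 0, .ofNat 0, .ofNat 0, .ofNat 0, .ofNat 0, .ofNat 0,
    .ofNat 0, .ofNat 0, .ofNat 1, .ofNat 0, .ofNat 0, .ofNat 0, .ofNat 0],
  [.ofNat 1201200, .ofNat 0, .ofNat 1680, .negSucc 24639, .ofNat 24, .ofNat 132, .negSucc 38, .negSucc 209,
    .negSucc 11, .ofNat 0, .ofNat 0, .negSucc 39, .ofNat 0, .ofNat 0, .ofNat 0, .ofNat 12, .negSucc 2, .ofNat 0,
    .ofNat 9, .ofNat 11, .negSucc 11, .negSucc 8, .negSucc 5, .negSucc 91, .ofNat 20, .ofNat 0, .negSucc 1, .ofNat 0,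
    .ofNat 0, .ofNat 0, .ofNat 0, .ofNat 3, .ofNat 0, .ofNat 0, .ofNat 0, .ofNat 0, .ofNat 0, .ofNat 1, .negSucc 2,
    .ofNat 0, .ofNat 6, .ofNat 0, .ofNat 0, .ofNat 0, .negSucc 1, .ofNat 0, .ofNat 0, .ofNat 0, .ofNat 0, .ofNat 0,
    .ofNat 1, .ofNat 0, .negSucc 1, .ofNat 0, .ofNat 0, .ofNat 0, .ofNat 0, .ofNat 0, .ofNat 0],
  [.ofNat 1201200, .ofNat 0, .ofNat 1680, .ofNat 24640, .ofNat 24, .ofNat 132, .negSucc 38, .negSucc 209, .negSucc 11,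
    .ofNat 0, .ofNat 0, .ofNat 40, .ofNat 0, .ofNat 0, .ofNat 0, .negSucc 11, .ofNat 3, .ofNat 0, .ofNat 9,
    .negSucc 10, .negSucc 11, .negSucc 8, .negSucc 5, .ofNat 92, .negSucc 19, .ofNat 0, .ofNat 2, .ofNat 0, .ofNat 0,
    .ofNat 0, .ofNat 0, .ofNat 3, .ofNat 0, .ofNat 0, .ofNat 0, .ofNat 0, .ofNat 0, .negSucc 0, .negSucc 2, .ofNat 0,
    .ofNat 6, .ofNat 0, .ofNat 0, .ofNat 0, .ofNat 2, .ofNat 0, .ofNat 0, .ofNat 0, .ofNat 0, .ofNat 0, .negSucc 0,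
    .ofNat 0, .ofNat 2, .ofNat 0, .ofNat 0, .ofNat 0, .ofNat 0, .ofNat 0, .ofNat 0],
  [.ofNat 1297296, .ofNat 0, .ofNat 1200, .negSucc 44351, .ofNat 0, .negSucc 323, .negSucc 80, .ofNat 1134, .ofNat 12,
    .ofNat 0, .ofNat 0, .negSucc 39, .ofNat 0, .negSucc 3, .ofNat 0, .negSucc 11, .ofNat 3, .ofNat 0, .ofNat 3,
    .ofNat 9, .ofNat 12, .ofNat 9, .negSucc 5, .negSucc 35, .ofNat 36, .ofNat 0, .ofNat 2, .ofNat 0, .ofNat 0,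
    .ofNat 0, .ofNat 0, .ofNat 0, .ofNat 0, .ofNat 0, .negSucc 1, .ofNat 0, .ofNat 0, .ofNat 1, .ofNat 3, .ofNat 0,
    .ofNat 6, .ofNat 0, .ofNat 0, .ofNat 0, .negSucc 1, .ofNat 0, .ofNat 0, .ofNat 0, .negSucc 0, .ofNat 0, .ofNat 0,
    .ofNat 0, .ofNat 0, .ofNat 0, .ofNat 0, .ofNat 0, .ofNat 0, .ofNat 0, .ofNat 1],
  [.ofNat 1297296, .ofNat 0, .ofNat 1200, .ofNat 44352, .ofNat 0, .negSucc 323, .negSucc 80, .ofNat 1134, .ofNat 12,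
    .ofNat 0, .ofNat 0, .ofNat 40, .ofNat 0, .negSucc 3, .ofNat 0, .ofNat 12, .negSucc 2, .ofNat 0, .ofNat 3,
    .negSucc 8, .ofNat 12, .ofNat 9, .negSucc 5, .ofNat 36, .negSucc 35, .ofNat 0, .negSucc 1, .ofNat 0, .ofNat 0,
    .ofNat 0, .ofNat 0, .ofNat 0, .ofNat 0, .ofNat 0, .ofNat 2, .ofNat 0, .ofNat 0, .negSucc 0, .ofNat 3, .ofNat 0,
    .ofNat 6, .ofNat 0, .ofNat 0, .ofNat 0, .ofNat 2, .ofNat 0, .ofNat 0, .ofNat 0, .negSucc 0, .ofNat 0, .ofNat 0,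
    .ofNat 0, .ofNat 0, .ofNat 0, .ofNat 0, .ofNat 0, .ofNat 0, .ofNat 0, .negSucc 0],
  [.ofNat 1441792, .ofNat 0, .ofNat 0, .ofNat 0, .negSucc 7, .ofNat 640, .ofNat 64, .negSucc 511, .ofNat 0, .ofNat 0,
    .ofNat 0, .ofNat 0, .ofNat 0, .negSucc 7, .ofNat 0, .ofNat 0, .ofNat 0, .ofNat 0, .ofNat 0, .ofNat 0, .ofNat 0,
    .ofNat 0, .ofNat 0, .ofNat 0, .ofNat 0, .ofNat 2, .ofNat 0, .ofNat 0, .ofNat 0, .ofNat 0, .negSucc 1, .negSucc 1,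
    .ofNat 4, .ofNat 0, .ofNat 0, .ofNat 0, .ofNat 0, .ofNat 0, .ofNat 0, .ofNat 0, .ofNat 0, .ofNat 0, .ofNat 0,
    .ofNat 0, .ofNat 0, .ofNat 0, .ofNat 1, .ofNat 0, .negSucc 1, .ofNat 0, .ofNat 0, .ofNat 0, .ofNat 0, .ofNat 0,
    .negSucc 0, .ofNat 0, .ofNat 0, .ofNat 0, .ofNat 0],
  [.ofNat 2196480, .ofNat 0, .negSucc 1023, .negSucc 11263, .negSucc 23, .negSucc 239, .negSucc 23, .negSucc 455,
    .ofNat 0, .ofNat 0, .ofNat 0, .ofNat 64, .ofNat 0, .ofNat 5, .ofNat 0, .ofNat 0, .ofNat 0, .ofNat 0, .negSucc 3,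
    .ofNat 4, .negSucc 15, .ofNat 0, .ofNat 8, .ofNat 32, .negSucc 103, .negSucc 0, .ofNat 0, .ofNat 0, .ofNat 0,
    .ofNat 0, .ofNat 0, .ofNat 3, .ofNat 3, .ofNat 1, .ofNat 1, .ofNat 0, .ofNat 0, .ofNat 2, .ofNat 0, .ofNat 0,
    .ofNat 0, .ofNat 0, .ofNat 0, .ofNat 0, .negSucc 3, .ofNat 0, .ofNat 0, .ofNat 1, .negSucc 0, .ofNat 0,
    .negSucc 0, .negSucc 0, .negSucc 0, .negSucc 0, .negSucc 0, .ofNat 0, .ofNat 0, .ofNat 0, .ofNat 1],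
  [.ofNat 2196480, .ofNat 0, .negSucc 1023, .ofNat 11264, .negSucc 23, .negSucc 239, .negSucc 23, .negSucc 455,
    .ofNat 0, .ofNat 0, .ofNat 0, .negSucc 63, .ofNat 0, .ofNat 5, .ofNat 0, .ofNat 0, .ofNat 0, .ofNat 0, .negSucc 3,
    .negSucc 3, .negSucc 15, .ofNat 0, .ofNat 8, .negSucc 31, .ofNat 104, .negSucc 0, .ofNat 0, .ofNat 0, .ofNat 0,
    .ofNat 0, .ofNat 0, .ofNat 3, .ofNat 3, .ofNat 1, .negSucc 0, .ofNat 0, .ofNat 0, .negSucc 1, .ofNat 0, .ofNat 0,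
    .ofNat 0, .ofNat 0, .ofNat 0, .ofNat 0, .ofNat 4, .ofNat 0, .ofNat 0, .negSucc 0, .negSucc 0, .ofNat 0, .ofNat 1,
    .negSucc 0, .ofNat 1, .ofNat 1, .negSucc 0, .ofNat 0, .ofNat 0, .ofNat 0, .negSucc 0],
  [.ofNat 2358720, .ofNat 0, .ofNat 1344, .negSucc 8063, .ofNat 0, .negSucc 323, .ofNat 0, .negSucc 1133, .ofNat 0,
    .ofNat 0, .ofNat 0, .negSucc 15, .ofNat 0, .negSucc 4, .ofNat 0, .negSucc 11, .negSucc 5, .ofNat 0, .ofNat 0,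
    .negSucc 17, .ofNat 12, .ofNat 0, .ofNat 6, .negSucc 35, .ofNat 36, .ofNat 0, .ofNat 0, .ofNat 0, .ofNat 0,
    .ofNat 0, .ofNat 0, .ofNat 0, .ofNat 0, .negSucc 0, .ofNat 1, .negSucc 0, .ofNat 0, .negSucc 1, .ofNat 0,
    .ofNat 0, .negSucc 5, .ofNat 0, .ofNat 0, .ofNat 0, .negSucc 1, .ofNat 0, .ofNat 0, .ofNat 0, .ofNat 1, .ofNat 0,
    .ofNat 0, .ofNat 0, .ofNat 0, .negSucc 0, .ofNat 0, .ofNat 1, .ofNat 0, .ofNat 0, .ofNat 1],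
  [.ofNat 2358720, .ofNat 0, .ofNat 1344, .ofNat 8064, .ofNat 0, .negSucc 323, .ofNat 0, .negSucc 1133, .ofNat 0,
    .ofNat 0, .ofNat 0, .ofNat 16, .ofNat 0, .negSucc 4, .ofNat 0, .ofNat 12, .ofNat 6, .ofNat 0, .ofNat 0, .ofNat 18,
    .ofNat 12, .ofNat 0, .ofNat 6, .ofNat 36, .negSucc 35, .ofNat 0, .ofNat 0, .ofNat 0, .ofNat 0, .ofNat 0, .ofNat 0,
    .ofNat 0, .ofNat 0, .negSucc 0, .negSucc 0, .negSucc 0, .ofNat 0, .ofNat 2, .ofNat 0, .ofNat 0, .negSucc 5,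
    .ofNat 0, .ofNat 0, .ofNat 0, .ofNat 2, .ofNat 0, .ofNat 0, .ofNat 0, .ofNat 1, .ofNat 0, .ofNat 0, .ofNat 0,
    .ofNat 0, .ofNat 1, .ofNat 0, .negSucc 0, .ofNat 0, .ofNat 0, .negSucc 0],
  [.ofNat 2402400, .ofNat 0, .negSucc 1759, .negSucc 49279, .ofNat 21, .negSucc 59, .ofNat 66, .ofNat 840, .negSucc 7,
    .ofNat 0, .ofNat 0, .ofNat 80, .ofNat 0, .ofNat 0, .negSucc 2, .ofNat 0, .ofNat 0, .ofNat 0, .negSucc 1, .ofNat 4,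
    .ofNat 4, .ofNat 6, .negSucc 7, .ofNat 32, .ofNat 40, .ofNat 0, .ofNat 0, .ofNat 0, .ofNat 0, .ofNat 0, .ofNat 0,
    .ofNat 0, .negSucc 2, .ofNat 0, .ofNat 0, .ofNat 0, .ofNat 1, .negSucc 1, .negSucc 1, .ofNat 0, .ofNat 0,
    .ofNat 0, .negSucc 1, .ofNat 0, .ofNat 4, .ofNat 0, .ofNat 0, .ofNat 0, .ofNat 0, .ofNat 0, .ofNat 2, .ofNat 1,
    .negSucc 0, .ofNat 0, .ofNat 0, .ofNat 0, .ofNat 0, .ofNat 0, .ofNat 0],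
  [.ofNat 2402400, .ofNat 0, .negSucc 1759, .ofNat 49280, .ofNat 21, .negSucc 59, .ofNat 66, .ofNat 840, .negSucc 7,
    .ofNat 0, .ofNat 0, .negSucc 79, .ofNat 0, .ofNat 0, .negSucc 2, .ofNat 0, .ofNat 0, .ofNat 0, .negSucc 1,
    .negSucc 3, .ofNat 4, .ofNat 6, .negSucc 7, .negSucc 31, .negSucc 39, .ofNat 0, .ofNat 0, .ofNat 0, .ofNat 0,
    .ofNat 0, .ofNat 0, .ofNat 0, .negSucc 2, .ofNat 0, .ofNat 0, .ofNat 0, .ofNat 1, .ofNat 2, .negSucc 1, .ofNat 0,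
    .ofNat 0, .ofNat 0, .negSucc 1, .ofNat 0, .negSucc 3, .ofNat 0, .ofNat 0, .ofNat 0, .ofNat 0, .ofNat 0,
    .negSucc 1, .ofNat 1, .ofNat 1, .ofNat 0, .ofNat 0, .ofNat 0, .ofNat 0, .ofNat 0, .ofNat 0],
  [.ofNat 2555904, .ofNat 0, .ofNat 0, .negSucc 32767, .negSucc 23, .ofNat 192, .negSucc 95, .negSucc 383, .ofNat 0,
    .ofNat 0, .ofNat 0, .ofNat 0, .ofNat 0, .ofNat 4, .ofNat 0, .ofNat 0, .ofNat 0, .ofNat 0, .ofNat 0, .negSucc 7,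
    .ofNat 0, .ofNat 0, .ofNat 0, .negSucc 63, .ofNat 64, .ofNat 1, .ofNat 0, .ofNat 0, .ofNat 0, .ofNat 0, .ofNat 0,
    .negSucc 2, .ofNat 0, .ofNat 0, .ofNat 2, .ofNat 1, .ofNat 0, .ofNat 0, .ofNat 0, .ofNat 0, .ofNat 0, .ofNat 0,
    .ofNat 0, .ofNat 0, .ofNat 0, .ofNat 0, .ofNat 0, .ofNat 1, .ofNat 1, .ofNat 0, .negSucc 0, .ofNat 0, .ofNat 2,
    .ofNat 0, .ofNat 1, .negSucc 0, .ofNat 0, .ofNat 0, .negSucc 0],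
  [.ofNat 2555904, .ofNat 0, .ofNat 0, .ofNat 32768, .negSucc 23, .ofNat 192, .negSucc 95, .negSucc 383, .ofNat 0,
    .ofNat 0, .ofNat 0, .ofNat 0, .ofNat 0, .ofNat 4, .ofNat 0, .ofNat 0, .ofNat 0, .ofNat 0, .ofNat 0, .ofNat 8,
    .ofNat 0, .ofNat 0, .ofNat 0, .ofNat 64, .negSucc 63, .ofNat 1, .ofNat 0, .ofNat 0, .ofNat 0, .ofNat 0, .ofNat 0,
    .negSucc 2, .ofNat 0, .ofNat 0, .negSucc 1, .ofNat 1, .ofNat 0, .ofNat 0, .ofNat 0, .ofNat 0, .ofNat 0, .ofNat 0,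
    .ofNat 0, .ofNat 0, .ofNat 0, .ofNat 0, .ofNat 0, .negSucc 0, .ofNat 1, .ofNat 0, .ofNat 1, .ofNat 0, .negSucc 1,
    .ofNat 0, .ofNat 1, .ofNat 1, .ofNat 0, .ofNat 0, .ofNat 1],
  [.ofNat 11648, .ofNat 0, .ofNat 128, .negSucc 1791, .negSucc 15, .negSucc 15, .negSucc 15, .ofNat 308, .ofNat 0,
    .ofNat 0, .ofNat 0, .negSucc 31, .ofNat 0, .negSucc 1, .ofNat 0, .ofNat 0, .ofNat 0, .ofNat 0, .ofNat 8, .ofNat 8,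
    .negSucc 15, .ofNat 0, .negSucc 3, .ofNat 64, .ofNat 8, .ofNat 0, .ofNat 0, .ofNat 0, .ofNat 0, .ofNat 0,
    .ofNat 2, .ofNat 2, .ofNat 2, .negSucc 1, .negSucc 1, .ofNat 1, .ofNat 0, .negSucc 3, .ofNat 0, .ofNat 0,
    .negSucc 11, .ofNat 0, .ofNat 0, .ofNat 0, .negSucc 3, .ofNat 0, .ofNat 0, .ofNat 0, .negSucc 1, .ofNat 0,
    .negSucc 1, .ofNat 2, .negSucc 1, .negSucc 1, .ofNat 0, .negSucc 0, .ofNat 0, .ofNat 0, .negSucc 1],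
  [.ofNat 11648, .ofNat 0, .ofNat 128, .ofNat 1792, .negSucc 15, .negSucc 15, .negSucc 15, .ofNat 308, .ofNat 0,
    .ofNat 0, .ofNat 0, .ofNat 32, .ofNat 0, .negSucc 1, .ofNat 0, .ofNat 0, .ofNat 0, .ofNat 0, .ofNat 8, .negSucc 7,
    .negSucc 15, .ofNat 0, .negSucc 3, .negSucc 63, .negSucc 7, .ofNat 0, .ofNat 0, .ofNat 0, .ofNat 0, .ofNat 0,
    .ofNat 2, .ofNat 2, .ofNat 2, .negSucc 1, .ofNat 2, .ofNat 1, .ofNat 0, .ofNat 4, .ofNat 0, .ofNat 0, .negSucc 11,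
    .ofNat 0, .ofNat 0, .ofNat 0, .ofNat 4, .ofNat 0, .ofNat 0, .ofNat 0, .negSucc 1, .ofNat 0, .ofNat 2, .ofNat 2,
    .ofNat 2, .ofNat 2, .ofNat 0, .ofNat 1, .ofNat 0, .ofNat 0, .ofNat 2],
  [.ofNat 211200, .ofNat 0, .negSucc 1279, .ofNat 0, .negSucc 47, .negSucc 47, .ofNat 96, .ofNat 240, .ofNat 0,
    .ofNat 0, .ofNat 0, .ofNat 0, .ofNat 0, .ofNat 0, .ofNat 0, .ofNat 0, .ofNat 0, .ofNat 0, .ofNat 16, .ofNat 0,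
    .ofNat 16, .ofNat 0, .ofNat 16, .ofNat 0, .ofNat 0, .negSucc 3, .ofNat 0, .ofNat 0, .ofNat 0, .ofNat 0, .ofNat 0,
    .ofNat 0, .negSucc 5, .ofNat 0, .ofNat 0, .ofNat 0, .ofNat 0, .ofNat 0, .ofNat 0, .ofNat 0, .ofNat 0, .ofNat 0,
    .ofNat 0, .ofNat 0, .ofNat 0, .ofNat 0, .ofNat 2, .ofNat 0, .ofNat 0, .ofNat 0, .ofNat 0, .negSucc 1, .ofNat 0,
    .ofNat 0, .ofNat 2, .ofNat 0, .ofNat 0, .ofNat 0, .ofNat 0],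
  [.ofNat 3326400, .ofNat 0, .negSucc 4799, .ofNat 0, .ofNat 54, .ofNat 216, .ofNat 108, .ofNat 0, .ofNat 16,
    .ofNat 0, .ofNat 0, .ofNat 0, .ofNat 0, .ofNat 0, .ofNat 6, .ofNat 0, .ofNat 0, .ofNat 0, .ofNat 12, .ofNat 0,
    .ofNat 24, .negSucc 11, .ofNat 0, .ofNat 0, .ofNat 0, .ofNat 0, .ofNat 0, .ofNat 0, .ofNat 0, .ofNat 0, .ofNat 0,
    .ofNat 0, .ofNat 0, .ofNat 0, .ofNat 0, .ofNat 0, .negSucc 1, .ofNat 0, .ofNat 4, .ofNat 0, .ofNat 0, .ofNat 0,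
    .ofNat 4, .ofNat 0, .ofNat 0, .ofNat 0, .negSucc 0, .ofNat 0, .ofNat 0, .ofNat 0, .ofNat 0, .ofNat 0, .ofNat 0,
    .ofNat 0, .ofNat 0, .ofNat 0, .ofNat 0, .ofNat 0, .ofNat 0]]

/-- the coefficients -/
def pg : List (List (List (ℤ × ℕ))) := [
  [[(.ofNat 1, 0)], [], [], [], [], [], []],
  [[], [], [(.ofNat 1, 0)], [], [], [], []],
  [],
  [[], [], [], [(.negSucc 0, 0)], [], [], [(.ofNat 1, 0)]],
  [],
  [[(.ofNat 1, 1)], [], [], [], [], [], []],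
  [[], [], [], [(.ofNat 1, 0)], [], [], []],
  [],
  [[(.negSucc 0, 0), (.ofNat 1, 2)], [], [], [(.ofNat 1, 0)], [(.ofNat 1, 0)], [(.negSucc 0, 0)], [(.negSucc 0, 0)]],
  [[(.ofNat 26, 0), (.negSucc 50, 1), (.negSucc 11, 2), (.negSucc 13, 3), (.ofNat 48, 4), (.ofNat 53, 5),
    (.ofNat 25, 6), (.ofNat 25, 7), (.negSucc 14, 9), (.ofNat 3, 10), (.negSucc 13, 11), (.negSucc 5, 12),
    (.negSucc 10, 18)], [(.negSucc 45, 0), (.ofNat 32, 1), (.negSucc 15, 2), (.negSucc 15, 3), (.negSucc 18, 4),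
    (.negSucc 13, 5), (.ofNat 10, 6), (.ofNat 10, 7), (.negSucc 4, 9), (.ofNat 1, 13)], [(.negSucc 31, 0),
    (.ofNat 46, 1), (.negSucc 14, 3), (.negSucc 0, 4), (.negSucc 4, 5), (.ofNat 9, 6), (.ofNat 10, 7),
    (.ofNat 1, 14)], [(.ofNat 22, 0), (.negSucc 0, 2), (.ofNat 2, 3), (.ofNat 6, 4)], [(.ofNat 42, 0), (.ofNat 14, 1),
    (.negSucc 6, 2)], [(.negSucc 45, 0), (.negSucc 13, 1)], [(.negSucc 29, 0), (.negSucc 1, 1)]],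
  [[], [(.ofNat 1, 1)], [(.negSucc 0, 0)], [(.ofNat 1, 0)], [], [], [(.negSucc 0, 0)]],
  [],
  [[(.negSucc 0, 2), (.ofNat 1, 3)], [], [], [(.negSucc 0, 0)], [(.negSucc 0, 0)], [(.ofNat 1, 0)], [(.ofNat 1, 0)]],
  [[(.negSucc 116, 0), (.ofNat 210, 1), (.ofNat 58, 2), (.ofNat 60, 3), (.negSucc 207, 4), (.negSucc 229, 5),
    (.negSucc 116, 6), (.negSucc 107, 7), (.ofNat 63, 9), (.negSucc 10, 10), (.ofNat 53, 11), (.ofNat 22, 12),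
    (.ofNat 44, 18)], [(.ofNat 214, 0), (.negSucc 144, 1), (.ofNat 84, 2), (.ofNat 67, 3), (.ofNat 86, 4),
    (.ofNat 59, 5), (.negSucc 38, 6), (.negSucc 43, 7), (.ofNat 26, 9), (.negSucc 0, 12), (.negSucc 4, 13),
    (.ofNat 1, 14)], [(.ofNat 144, 0), (.negSucc 213, 1), (.ofNat 66, 3), (.negSucc 6, 4), (.ofNat 15, 5),
    (.negSucc 31, 6), (.negSucc 42, 7), (.negSucc 0, 14)], [(.negSucc 94, 0), (.ofNat 12, 1), (.ofNat 1, 2),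
    (.negSucc 8, 3), (.negSucc 28, 4)], [(.negSucc 193, 0), (.negSucc 59, 1), (.ofNat 29, 2)], [(.ofNat 204, 0),
    (.ofNat 60, 1), (.ofNat 2, 2)], [(.ofNat 126, 0), (.negSucc 1, 1)]],
  [],
  [[(.ofNat 7, 0), (.negSucc 27, 1), (.negSucc 3, 2), (.negSucc 4, 3), (.ofNat 23, 4), (.ofNat 23, 5), (.ofNat 7, 6),
    (.ofNat 12, 7), (.negSucc 8, 9), (.ofNat 2, 10), (.negSucc 7, 11), (.negSucc 4, 12), (.negSucc 4, 18)],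
    [(.negSucc 18, 0), (.ofNat 15, 1), (.negSucc 1, 2), (.negSucc 8, 3), (.negSucc 6, 4), (.negSucc 6, 5),
    (.ofNat 5, 6), (.ofNat 6, 7), (.negSucc 1, 9), (.ofNat 1, 13), (.negSucc 0, 14)], [(.negSucc 14, 0),
    (.ofNat 19, 1), (.negSucc 6, 3), (.negSucc 1, 4), (.negSucc 3, 5), (.ofNat 5, 6), (.ofNat 5, 7), (.ofNat 1, 14)],
    [(.ofNat 13, 0), (.ofNat 2, 1), (.negSucc 0, 2), (.ofNat 1, 3), (.ofNat 3, 4)], [(.ofNat 19, 0), (.ofNat 7, 1),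
    (.negSucc 3, 2)], [(.negSucc 21, 0), (.negSucc 6, 1), (.ofNat 1, 2)], [(.negSucc 16, 0), (.negSucc 2, 1)]],
  [],
  [[(.negSucc 18, 0), (.ofNat 43, 1), (.ofNat 4, 2), (.ofNat 11, 3), (.negSucc 39, 4), (.negSucc 44, 5),
    (.negSucc 18, 6), (.negSucc 18, 7), (.ofNat 10, 9), (.ofNat 10, 11), (.ofNat 4, 12), (.ofNat 8, 18)],
    [(.ofNat 38, 0), (.negSucc 26, 1), (.ofNat 12, 2), (.ofNat 16, 3), (.ofNat 17, 4), (.ofNat 11, 5),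
    (.negSucc 8, 6), (.negSucc 7, 7), (.ofNat 4, 9), (.negSucc 0, 13), (.ofNat 1, 14)], [(.ofNat 27, 0),
    (.negSucc 37, 1), (.ofNat 14, 3), (.ofNat 2, 4), (.ofNat 3, 5), (.negSucc 7, 6), (.negSucc 7, 7),
    (.negSucc 0, 14)], [(.negSucc 22, 0), (.negSucc 0, 1), (.ofNat 1, 2), (.negSucc 1, 3), (.negSucc 4, 4)],
    [(.negSucc 37, 0), (.negSucc 11, 1), (.ofNat 6, 2)], [(.ofNat 43, 0), (.ofNat 12, 1)], [(.ofNat 30, 0),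
    (.ofNat 3, 1)]],
  [],
  [[(.negSucc 3, 0), (.ofNat 2, 1), (.negSucc 0, 2), (.ofNat 2, 3), (.negSucc 1, 4), (.negSucc 5, 5), (.negSucc 3, 6),
    (.negSucc 0, 7), (.negSucc 0, 9), (.ofNat 1, 10), (.negSucc 0, 11), (.negSucc 1, 12)], [(.ofNat 3, 0),
    (.negSucc 1, 1), (.ofNat 3, 2), (.ofNat 2, 4), (.negSucc 0, 5), (.negSucc 0, 6), (.ofNat 1, 9), (.negSucc 0, 14)],
    [(.ofNat 2, 0), (.negSucc 1, 1), (.ofNat 2, 3), (.negSucc 0, 5), (.ofNat 1, 14)], [(.negSucc 2, 0),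
    (.ofNat 1, 1)], [(.negSucc 1, 0), (.negSucc 0, 1), (.negSucc 0, 2)], [(.ofNat 2, 0), (.ofNat 1, 1),
    (.ofNat 1, 2)], [(.ofNat 3, 0), (.negSucc 0, 1)]],
  [],
  [[(.ofNat 118, 0), (.negSucc 209, 1), (.negSucc 58, 2), (.negSucc 59, 3), (.ofNat 209, 4), (.ofNat 230, 5),
    (.ofNat 118, 6), (.ofNat 108, 7), (.negSucc 62, 9), (.ofNat 11, 10), (.negSucc 52, 11), (.negSucc 21, 12),
    (.negSucc 43, 18)], [(.negSucc 214, 0), (.ofNat 145, 1), (.negSucc 84, 2), (.negSucc 66, 3), (.negSucc 85, 4),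
    (.negSucc 58, 5), (.ofNat 39, 6), (.ofNat 44, 7), (.negSucc 25, 9), (.ofNat 1, 12), (.ofNat 5, 13),
    (.negSucc 0, 14)], [(.negSucc 144, 0), (.ofNat 215, 1), (.negSucc 65, 3), (.ofNat 7, 4), (.negSucc 14, 5),
    (.ofNat 32, 6), (.ofNat 43, 7), (.ofNat 1, 14)], [(.ofNat 94, 0), (.negSucc 11, 1), (.negSucc 0, 2),
    (.ofNat 9, 3), (.ofNat 29, 4)], [(.ofNat 194, 0), (.ofNat 60, 1), (.negSucc 28, 2)], [(.negSucc 203, 0),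
    (.negSucc 59, 1), (.negSucc 1, 2)], [(.negSucc 124, 0), (.ofNat 2, 1)]],
  [],
  [[(.ofNat 117, 0), (.negSucc 209, 1), (.negSucc 57, 2), (.negSucc 59, 3), (.ofNat 208, 4), (.ofNat 230, 5),
    (.ofNat 117, 6), (.ofNat 108, 7), (.negSucc 62, 9), (.ofNat 11, 10), (.negSucc 52, 11), (.negSucc 21, 12),
    (.negSucc 43, 18)], [(.negSucc 213, 0), (.ofNat 144, 1), (.negSucc 83, 2), (.negSucc 66, 3), (.negSucc 85, 4),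
    (.negSucc 58, 5), (.ofNat 39, 6), (.ofNat 44, 7), (.negSucc 25, 9), (.ofNat 1, 12), (.ofNat 5, 13),
    (.negSucc 0, 14)], [(.negSucc 143, 0), (.ofNat 214, 1), (.negSucc 65, 3), (.ofNat 7, 4), (.negSucc 14, 5),
    (.ofNat 32, 6), (.ofNat 43, 7), (.ofNat 1, 14)], [(.ofNat 94, 0), (.negSucc 11, 1), (.negSucc 0, 2),
    (.ofNat 9, 3), (.ofNat 29, 4)], [(.ofNat 194, 0), (.ofNat 59, 1), (.negSucc 28, 2)], [(.negSucc 203, 0),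
    (.negSucc 58, 1), (.negSucc 1, 2)], [(.negSucc 124, 0), (.ofNat 2, 1)]],
  [],
  [[(.negSucc 0, 0), (.negSucc 0, 4), (.negSucc 0, 5), (.negSucc 0, 6)], [(.ofNat 1, 0), (.negSucc 0, 1),
    (.ofNat 1, 2), (.ofNat 1, 4)], [(.ofNat 1, 0), (.negSucc 0, 1)], [], [(.negSucc 0, 0)], [(.ofNat 1, 0)], []],
  [],
  [[(.negSucc 0, 1), (.ofNat 1, 5)], [], [], [], [], [], []],
  [[(.negSucc 117, 0), (.ofNat 209, 1), (.ofNat 59, 2), (.ofNat 61, 3), (.negSucc 206, 4), (.negSucc 229, 5),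
    (.negSucc 117, 6), (.negSucc 108, 7), (.ofNat 63, 9), (.negSucc 10, 10), (.ofNat 53, 11), (.ofNat 22, 12),
    (.ofNat 44, 18)], [(.ofNat 214, 0), (.negSucc 144, 1), (.ofNat 85, 2), (.ofNat 66, 3), (.ofNat 86, 4),
    (.ofNat 59, 5), (.negSucc 38, 6), (.negSucc 43, 7), (.ofNat 26, 9), (.negSucc 0, 12), (.negSucc 4, 13),
    (.ofNat 1, 14)], [(.ofNat 145, 0), (.negSucc 213, 1), (.ofNat 66, 3), (.negSucc 7, 4), (.ofNat 15, 5),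
    (.negSucc 30, 6), (.negSucc 42, 7), (.negSucc 0, 14)], [(.negSucc 94, 0), (.ofNat 13, 1), (.ofNat 1, 2),
    (.negSucc 8, 3), (.negSucc 28, 4)], [(.negSucc 192, 0), (.negSucc 57, 1), (.ofNat 28, 2)], [(.ofNat 203, 0),
    (.ofNat 58, 1), (.ofNat 3, 2)], [(.ofNat 125, 0), (.negSucc 2, 1)]],
  [],
  [[(.negSucc 96, 0), (.ofNat 168, 1), (.ofNat 54, 2), (.ofNat 48, 3), (.negSucc 168, 4), (.negSucc 183, 5),
    (.negSucc 96, 6), (.negSucc 87, 7), (.ofNat 53, 9), (.negSucc 10, 10), (.ofNat 43, 11), (.ofNat 18, 12),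
    (.ofNat 36, 18)], [(.ofNat 176, 0), (.negSucc 117, 1), (.ofNat 71, 2), (.ofNat 52, 3), (.ofNat 68, 4),
    (.ofNat 48, 5), (.negSucc 29, 6), (.negSucc 35, 7), (.ofNat 22, 9), (.negSucc 0, 12), (.negSucc 3, 13)],
    [(.ofNat 118, 0), (.negSucc 175, 1), (.ofNat 52, 3), (.negSucc 7, 4), (.ofNat 12, 5), (.negSucc 23, 6),
    (.negSucc 34, 7)], [(.negSucc 71, 0), (.ofNat 12, 1), (.negSucc 6, 3), (.negSucc 23, 4)], [(.negSucc 155, 0),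
    (.negSucc 47, 1), (.ofNat 24, 2)], [(.ofNat 161, 0), (.ofNat 48, 1), (.ofNat 1, 2)], [(.ofNat 96, 0),
    (.negSucc 3, 1)]],
  [],
  [[(.ofNat 2, 0), (.negSucc 0, 1), (.negSucc 0, 3), (.ofNat 1, 4), (.ofNat 2, 5), (.ofNat 1, 6), (.ofNat 1, 7)],
    [(.negSucc 0, 0), (.ofNat 1, 1), (.negSucc 0, 4)], [(.negSucc 0, 0), (.ofNat 1, 1), (.negSucc 0, 4)],
    [(.ofNat 1, 0)], [(.ofNat 1, 0)], [(.negSucc 0, 0)], [(.negSucc 0, 0)]],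
  [[(.negSucc 13, 0), (.ofNat 19, 1), (.ofNat 4, 2), (.ofNat 7, 3), (.negSucc 19, 4), (.negSucc 24, 5),
    (.negSucc 13, 6), (.negSucc 9, 7), (.ofNat 4, 9), (.ofNat 4, 11), (.ofNat 4, 18)], [(.ofNat 22, 0),
    (.negSucc 13, 1), (.ofNat 11, 2), (.ofNat 7, 3), (.ofNat 10, 4), (.ofNat 5, 5), (.negSucc 3, 6), (.negSucc 3, 7),
    (.ofNat 3, 9)], [(.ofNat 14, 0), (.negSucc 21, 1), (.ofNat 7, 3), (.negSucc 0, 4), (.negSucc 2, 6),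
    (.negSucc 3, 7)], [(.negSucc 9, 0), (.ofNat 2, 1), (.negSucc 0, 3), (.negSucc 2, 4)], [(.negSucc 19, 0),
    (.negSucc 5, 1), (.ofNat 2, 2)], [(.ofNat 21, 0), (.ofNat 6, 1), (.ofNat 1, 2)], [(.ofNat 13, 0),
    (.negSucc 0, 1)]],
  [],
  [[(.negSucc 1, 0), (.ofNat 1, 1), (.ofNat 1, 2), (.ofNat 1, 3), (.ofNat 1, 4), (.negSucc 1, 5), (.negSucc 1, 6),
    (.negSucc 0, 7), (.negSucc 0, 11), (.negSucc 0, 12)], [(.negSucc 0, 1), (.negSucc 0, 3), (.negSucc 0, 5),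
    (.ofNat 1, 9)], [(.ofNat 1, 0), (.ofNat 1, 1), (.negSucc 0, 4), (.ofNat 1, 6)], [(.negSucc 0, 0), (.ofNat 1, 1)],
    [(.ofNat 3, 0), (.ofNat 1, 1), (.negSucc 1, 2)], [(.negSucc 2, 0), (.negSucc 0, 1), (.ofNat 1, 2)],
    [(.negSucc 0, 1)]],
  [],
  [[(.negSucc 115, 0), (.ofNat 210, 1), (.ofNat 58, 2), (.ofNat 60, 3), (.negSucc 206, 4), (.negSucc 228, 5),
    (.negSucc 115, 6), (.negSucc 107, 7), (.ofNat 63, 9), (.negSucc 10, 10), (.ofNat 53, 11), (.ofNat 22, 12),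
    (.ofNat 44, 18)], [(.ofNat 213, 0), (.negSucc 143, 1), (.ofNat 83, 2), (.ofNat 66, 3), (.ofNat 85, 4),
    (.ofNat 59, 5), (.negSucc 38, 6), (.negSucc 43, 7), (.ofNat 26, 9), (.negSucc 0, 12), (.negSucc 4, 13),
    (.ofNat 1, 14)], [(.ofNat 144, 0), (.negSucc 212, 1), (.ofNat 66, 3), (.negSucc 6, 4), (.ofNat 16, 5),
    (.negSucc 31, 6), (.negSucc 42, 7), (.negSucc 0, 14)], [(.negSucc 93, 0), (.ofNat 12, 1), (.ofNat 1, 2),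
    (.negSucc 8, 3), (.negSucc 28, 4)], [(.negSucc 192, 0), (.negSucc 58, 1), (.ofNat 29, 2)], [(.ofNat 203, 0),
    (.ofNat 59, 1), (.ofNat 2, 2)], [(.ofNat 125, 0), (.negSucc 1, 1)]],
  [],
  [[(.ofNat 8, 0), (.negSucc 0, 1), (.negSucc 6, 2), (.negSucc 2, 3), (.ofNat 3, 4), (.ofNat 6, 5), (.ofNat 8, 6),
    (.ofNat 4, 7), (.negSucc 1, 9), (.ofNat 1, 10), (.ofNat 1, 12), (.negSucc 0, 18)], [(.negSucc 6, 0),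
    (.ofNat 5, 1), (.negSucc 6, 2), (.ofNat 2, 3), (.negSucc 1, 4), (.ofNat 1, 7), (.negSucc 1, 9), (.ofNat 1, 14)],
    [(.negSucc 4, 0), (.ofNat 6, 1), (.negSucc 0, 3), (.ofNat 4, 4), (.negSucc 1, 6), (.ofNat 1, 7),
    (.negSucc 0, 14)], [(.negSucc 0, 0), (.negSucc 3, 1), (.ofNat 1, 2), (.ofNat 1, 4)], [(.ofNat 1, 0),
    (.negSucc 0, 1), (.ofNat 2, 2)], [(.ofNat 1, 0), (.ofNat 1, 1), (.negSucc 1, 2)], [(.ofNat 2, 0), (.ofNat 4, 1)]],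
  [],
  [[(.ofNat 15, 0), (.negSucc 17, 1), (.ofNat 1, 2), (.negSucc 6, 3), (.ofNat 20, 4), (.ofNat 27, 5), (.ofNat 15, 6),
    (.ofNat 7, 7), (.negSucc 2, 10), (.negSucc 0, 11), (.ofNat 3, 12), (.negSucc 2, 18)], [(.negSucc 21, 0),
    (.ofNat 14, 1), (.negSucc 11, 2), (.negSucc 7, 3), (.negSucc 10, 4), (.negSucc 2, 5), (.ofNat 5, 6),
    (.ofNat 2, 7), (.negSucc 2, 9), (.ofNat 1, 14)], [(.negSucc 13, 0), (.ofNat 21, 1), (.negSucc 8, 3),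
    (.negSucc 0, 4), (.ofNat 2, 5), (.ofNat 3, 6), (.ofNat 3, 7), (.negSucc 0, 14)], [(.ofNat 12, 0), (.negSucc 0, 1),
    (.ofNat 1, 3), (.ofNat 2, 4)], [(.ofNat 21, 0), (.ofNat 8, 1), (.negSucc 1, 2)], [(.negSucc 22, 0),
    (.negSucc 6, 1), (.negSucc 0, 2)], [(.negSucc 15, 0)]],
  [],
  [[(.ofNat 2043, 0), (.negSucc 3676, 1), (.negSucc 995, 2), (.negSucc 1045, 3), (.ofNat 3640, 4), (.ofNat 4022, 5),
    (.ofNat 2041, 6), (.ofNat 1873, 7), (.negSucc 1086, 9), (.ofNat 180, 10), (.negSucc 918, 11), (.negSucc 373, 12),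
    (.negSucc 768, 18)], [(.negSucc 3741, 0), (.ofNat 2528, 1), (.negSucc 1463, 2), (.negSucc 1171, 3),
    (.negSucc 1498, 4), (.negSucc 1027, 5), (.ofNat 685, 6), (.ofNat 767, 7), (.negSucc 452, 9), (.ofNat 18, 12),
    (.ofNat 85, 13), (.negSucc 14, 14), (.ofNat 1, 18)], [(.negSucc 2527, 0), (.ofNat 3742, 1), (.negSucc 1161, 3),
    (.ofNat 107, 4), (.negSucc 262, 5), (.ofNat 563, 6), (.ofNat 751, 7), (.ofNat 15, 14)], [(.ofNat 1662, 0),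
    (.negSucc 200, 1), (.negSucc 18, 2), (.ofNat 157, 3), (.ofNat 504, 4)], [(.ofNat 3398, 0), (.ofNat 1049, 1),
    (.negSucc 513, 2)], [(.negSucc 3575, 0), (.negSucc 1048, 1), (.negSucc 28, 2)], [(.negSucc 2206, 0),
    (.ofNat 26, 1)]],
  [[(.negSucc 2, 0), (.ofNat 3, 1), (.ofNat 1, 2), (.ofNat 1, 3), (.negSucc 1, 4), (.negSucc 2, 5), (.negSucc 1, 6),
    (.negSucc 0, 7), (.ofNat 1, 9), (.ofNat 1, 10), (.ofNat 1, 18)], [(.ofNat 3, 0), (.negSucc 2, 1), (.ofNat 1, 3),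
    (.ofNat 1, 4), (.negSucc 0, 7)], [(.ofNat 3, 0), (.negSucc 2, 1), (.ofNat 1, 3), (.ofNat 1, 4), (.negSucc 0, 7)],
    [(.negSucc 1, 0)], [(.negSucc 1, 0)], [(.ofNat 2, 0)], [(.ofNat 2, 0)]]]

/-- the twist -/
def sgL : List ℕ := [0, 2, 1, 4, 3, 5, 7, 6, 8, 9, 11, 10, 12, 14, 13, 16, 15, 18, 17, 20, 19, 22, 21, 24, 23, 26, 25,
    27, 29, 28, 31, 30, 32, 34, 33, 36, 35, 38, 37, 40, 39, 42, 41, 43, 44]

/-- the degrees -/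
def bl : List ℤ := [.ofNat 352, .ofNat 2080, .ofNat 2080, .ofNat 13728, .ofNat 13728, .ofNat 27456, .ofNat 48048,
    .ofNat 48048, .ofNat 123200, .ofNat 133056, .ofNat 146432, .ofNat 146432, .ofNat 228800, .ofNat 235872,
    .ofNat 235872, .ofNat 320320, .ofNat 320320, .ofNat 400400, .ofNat 400400, .ofNat 436800, .ofNat 436800,
    .ofNat 480480, .ofNat 480480, .ofNat 686400, .ofNat 686400, .ofNat 915200, .ofNat 915200, .ofNat 1029600,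
    .ofNat 1201200, .ofNat 1201200, .ofNat 1297296, .ofNat 1297296, .ofNat 1441792, .ofNat 2196480, .ofNat 2196480,
    .ofNat 2358720, .ofNat 2358720, .ofNat 2402400, .ofNat 2402400, .ofNat 2555904, .ofNat 2555904, .ofNat 5824,
    .ofNat 5824, .ofNat 105600, .ofNat 1663200]

end Cfsg.Agent.MO.S.F22T
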