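import Cfsg.Agent.MQ.S.E62X.CkA
import Cfsg.Agent.MQ.S.F22T.Dat
import Cfsg.Agent.Lib.FinFast
import Cfsg.Agent.Prune
set_option linter.all false
prune_inst 0x7f00000000000000000000000000000000000000000000000000000000000000000000000000000000000000000000000000000000000000000000000000000000000000000000000000000000000000003fffffffffffffffffffffffffffbeffbdffffffff
open scoped Cfsg.Agent.FastGrp

/-!
# `2.Fi22` : the faithful characters of degree prime to `3` or `5` (helper35)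

* `gk3 : GK 3 2 Spor.Fi22 18`, `gf3 : GF 3 2 Spor.Fi22 4`, `gk5 : GK 5 2 Spor.Fi22 20`, `gf5 : GF 5 2 Spor.Fi22 4`.
-/

set_option autoImplicit false
set_option maxRecDepth 100000
set_option Elab.async false

namespace Cfsg.Agent.MO.S.F22T

open Cfsg Subgroup Cfsg.Agent.TAB.Eng Cfsg.Agent.TAB.F22 Cfsg.Agent.Characters Cfsg.Agent.Characters.Core
open Cfsg.Agent.TAB.Glue (frcM frcM_eq)
open Cfsg.Agent.Fischer.Fi23Class (K)
open Cfsg.Agent.R08.FiTwentyThree (pi zK ext)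
open Cfsg.Agent.MO.S.Cov2

/-- the sum of the products of the seeds with combinations of the rows of `Fi22` -/
noncomputable def ev (R sd : List (List ℤ)) : List (List (ℤ × ℕ)) → List ℤ :=
  List.rec (fun _ => []) (fun a _ ih c => List.rec [] (fun b c' _ => addL (mulL a (comb R b)) (ih c')) c) sd

theorem ev_spec {R su sv : List (List ℤ)} (hR : ∀ r ∈ R, Virt td (nth r))
    (h : List.Forall₂ (fun u v => ∃ f, Rp f u v) su sv) (c : List (List (ℤ × ℕ))) :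
    ∃ f, Rp f (ev R su c) (ev R sv c) := by
  induction h generalizing c with
  | nil => exact ⟨_, Rp.zero⟩
  | cons h _ ih => cases c with
    | nil => exact ⟨_, Rp.zero⟩
    | cons b c =>
      obtain ⟨f, h1⟩ := h
      obtain ⟨g, h2⟩ := ih c
      exact ⟨_, (h1.mul (Virt.comb hR b)).add h2⟩

theorem seeds_ok : List.Forall₂ (fun u v => ∃ f, Rp f u v) [u1, u2, v2, u7, v7, u8, v8] [v1, v2, u2, v7, u7, v8, u8] := by
  obtain ⟨f1, h1⟩ := seed (r := TAB.F23.r1) (u := u1) (v := v1) (by simp [TAB.F23.rows]) (by unfold Sd; decide +kernel)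
  obtain ⟨f2, h2⟩ := seed (r := TAB.F23.r2) (u := u2) (v := v2) (by simp [TAB.F23.rows]) (by unfold Sd; decide +kernel)
  obtain ⟨f7, h7⟩ := seed (r := TAB.F23.r7) (u := u7) (v := v7) (by simp [TAB.F23.rows]) (by unfold Sd; decide +kernel)
  obtain ⟨f8, h8⟩ := seed (r := TAB.F23.r8) (u := u8) (v := v8) (by simp [TAB.F23.rows]) (by unfold Sd; decide +kernel)
  exact .cons ⟨_, h1⟩ (.cons ⟨_, h2⟩ (.cons ⟨_, h2.tw⟩ (.cons ⟨_, h7⟩ (.cons ⟨_, h7.tw⟩ (.cons ⟨_, h8⟩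
    (.cons ⟨_, h8.tw⟩ .nil))))))

/-- the rows -/
noncomputable def rU (j : ℕ) : List ℤ := ntd ru [] j

/-- the twist -/
noncomputable def sg (j : ℕ) : ℕ := ntd sgL 0 j

/-- the norms -/
def mm (j : ℕ) : ℕ := if j < 41 then 1 else 2

theorem sg_ok : ∀ j < 45, sg j < 45 ∧ sg (sg j) = j := by decide +kernel

private noncomputable def _root_.Cfsg.Agent.LsF.f78bdbf_0 : {f // @Cfsg.Agent.TAB.Eng.allL = f} := ⟨_, by first | (delta Cfsg.Agent.TAB.Eng.allL; rewrite [Cfsg.Agent.LsF.cond_eq]; exact rfl) | exact rfl⟩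
private noncomputable def _root_.Cfsg.Agent.LsF.f78bdbf_1 : {f // @Cfsg.Agent.TAB.Eng.addL = f} := ⟨_, by first | (delta Cfsg.Agent.TAB.Eng.addL; rewrite [Cfsg.Agent.LsF.iadd_eq]; exact rfl) | exact rfl⟩
private noncomputable def _root_.Cfsg.Agent.LsF.f78bdbf_2 : {f // @Cfsg.Agent.MO.S.Cov2.mulL = f} := ⟨_, by first | (delta Cfsg.Agent.MO.S.Cov2.mulL; rewrite [Cfsg.Agent.LsF.imul_eq]; exact rfl) | exact rfl⟩
private noncomputable def _root_.Cfsg.Agent.LsF.f78bdbf_3 : {f // @Cfsg.Agent.TAB.Eng.comb = f} := ⟨_, by first | (delta Cfsg.Agent.TAB.Eng.comb; rewrite [Cfsg.Agent.LsF.f78bdbf_1.2, Cfsg.Agent.LsF.map_eq, Cfsg.Agent.LsF.imul_eq]; exact rfl) | exact rfl⟩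
private noncomputable def _root_.Cfsg.Agent.LsF.f78bdbf_4 : {f // @Cfsg.Agent.MO.S.F22T.ev = f} := ⟨_, by first | (delta Cfsg.Agent.MO.S.F22T.ev; rewrite [Cfsg.Agent.LsF.f78bdbf_1.2, Cfsg.Agent.LsF.f78bdbf_2.2, Cfsg.Agent.LsF.f78bdbf_3.2]; exact rfl) | exact rfl⟩
theorem pg_ok : frcM (rowA ++ rowB) (fun R => allL (fun j => decide (sg j < j) ||
    (decide (ev R [u1, u2, v2, u7, v7, u8, v8] (ntd pg [] j) = rU j) &&
      decide (ev R [v1, v2, u2, v7, u7, v8, u8] (ntd pg [] j) = rU (sg j)))) (List.range 45)) = true := by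
  ((try (rewrite [Cfsg.Agent.LsF.f78bdbf_0.2, Cfsg.Agent.LsF.f78bdbf_4.2, Cfsg.Agent.LsF.lappend_pat, Cfsg.Agent.LsF.and_eq, Cfsg.Agent.LsF.or_eq, Cfsg.Agent.LsF.decLt_eq, Cfsg.Agent.LsF.range_eq, Cfsg.Agent.LsF.instIDecEq_eq, Cfsg.Agent.LsF.dListEq_eq, Cfsg.Agent.LsF.decide_eq])); decide +kernel)

theorem ex_row (j : ℕ) (hj : j < 45) : ∃ f, Rp f (rU j) (rU (sg j)) := by
  have := fin22
  have h1 : ∀ j < 45, ¬ sg j < j → ∃ f, Rp f (rU j) (rU (sg j)) := fun j hj h => by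
    have h3 := pg_ok
    rw [frcM_eq] at h3
    have h2 := allL_spec h3 j (List.mem_range.2 hj)
    rw [decide_eq_false h, Bool.false_or, Bool.and_eq_true, decide_eq_true_eq, decide_eq_true_eq] at h2
    rw [← h2.1, ← h2.2]
    exact ev_spec (TAB.Sz.slp mass rfl hom ops virt_seeds ix ops_chk) seeds_ok _
  by_cases h : sg j < j
  · obtain ⟨f, h2⟩ := h1 _ (sg_ok j hj).1 (by rw [(sg_ok j hj).2]; omega)
    rw [(sg_ok j hj).2] at h2
    exact ⟨_, h2.tw⟩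
  · exact h1 j hj h

private noncomputable def fz (n : ℕ) (k : ℕ → ℤ) : ℤ := Nat.rec (k 0) (fun m _ => k (Nat.succ m)) n

private theorem fz_eq (n : ℕ) (k : ℕ → ℤ) : fz n k = k n := by cases n <;> rfl

private theorem ip_comm (v w : List ℤ) : ip dat v w = ip dat w v :=
  (ipL_eq _ v w).trans ((Finset.sum_congr rfl fun _ _ => congrArg _ (mul_comm _ _)).trans (ipL_eq _ w v).symm)

private noncomputable def ipq (i j : ℕ) : ℤ := fz i fun a => fz j fun b =>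
  Bool.rec (ip dat (rU b) (rU a)) (ip dat (rU a) (rU b)) (Nat.ble a b)

private theorem ipq_eq (i j : ℕ) : ipq i j = ip dat (rU i) (rU j) := by
  rw [ipq, fz_eq, fz_eq]
  cases Nat.ble i j
  exacts [ip_comm _ _, rfl]

private noncomputable def _root_.Cfsg.Agent.LsF.f78bdbf_5 : {f // @Cfsg.Agent.TAB.Eng.ipL = f} := ⟨_, by first | (delta Cfsg.Agent.TAB.Eng.ipL; rewrite [Cfsg.Agent.LsF.iadd_eq, Cfsg.Agent.LsF.imul_eq]; exact rfl) | exact rfl⟩
private noncomputable def _root_.Cfsg.Agent.LsF.f78bdbf_6 : {f // @Cfsg.Agent.TAB.Eng.ip = f} := ⟨_, by first | (delta Cfsg.Agent.TAB.Eng.ip; rewrite [Cfsg.Agent.LsF.f78bdbf_5.2]; exact rfl) | exact rfl⟩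
private noncomputable def _root_.Cfsg.Agent.LsF.f78bdbf_7 : {f // @Cfsg.Agent.MO.S.F22T.ipq = f} := ⟨_, by first | (delta Cfsg.Agent.MO.S.F22T.ipq; rewrite [Cfsg.Agent.LsF.f78bdbf_6.2]; exact rfl) | exact rfl⟩
private noncomputable def _root_.Cfsg.Agent.LsF.f78bdbf_8 : {f // @Cfsg.Agent.TAB.Eng.gam = f} := ⟨_, by first | (delta Cfsg.Agent.TAB.Eng.gam; rewrite [Cfsg.Agent.LsF.icast_pat, Cfsg.Agent.LsF.instDecEq_eq, Cfsg.Agent.LsF.dAnd_eq, Cfsg.Agent.LsF.dNot_eq, Cfsg.Agent.LsF.ite_eq]; exact rfl) | exact rfl⟩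
private noncomputable def _root_.Cfsg.Agent.LsF.f78bdbf_9 : {f // @Cfsg.Agent.MO.S.F22T.mm = f} := ⟨_, by first | (delta Cfsg.Agent.MO.S.F22T.mm; rewrite [Cfsg.Agent.LsF.decLt_eq, Cfsg.Agent.LsF.ite_eq]; exact rfl) | exact rfl⟩
private theorem gr0 : allL (fun i => allL (fun j => Bool.rec true (decide (ipq i j + ipq (sg i) (sg j) =
    2 * dat.N * gam mm (fun _ => 0) i j)) (Nat.ble i j)) (List.range 45)) (List.range 45) = true := by ((try (rewrite [Cfsg.Agent.LsF.f78bdbf_0.2, Cfsg.Agent.LsF.f78bdbf_7.2, Cfsg.Agent.LsF.f78bdbf_8.2, Cfsg.Agent.LsF.f78bdbf_9.2, Cfsg.Agent.LsF.iadd_pat, Cfsg.Agent.LsF.imul_pat, Cfsg.Agent.LsF.icast_pat, Cfsg.Agent.LsF.range_eq, Cfsg.Agent.LsF.instIDecEq_eq, Cfsg.Agent.LsF.decide_eq])); decide +kernel)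

theorem gram (i : ℕ) (hi : i < 45) (j : ℕ) (hj : j < 45) : ip dat (rU i) (rU j) + ip dat (rU (sg i)) (rU (sg j)) =
    2 * dat.N * gam mm (fun _ => 0) i j := by
  have h : ∀ i < 45, ∀ j < 45, i ≤ j → ip dat (rU i) (rU j) + ip dat (rU (sg i)) (rU (sg j)) =
      2 * dat.N * gam mm (fun _ => 0) i j := fun i hi j hj e => by
    have h1 := allL_spec (allL_spec gr0 i (List.mem_range.2 hi)) j (List.mem_range.2 hj)
    rw [Nat.ble_eq_true_of_le e, ipq_eq, ipq_eq] at h1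
    exact of_decide_eq_true h1
  rcases le_or_gt i j with e | e
  · exact h i hi j hj e
  · rw [ip_comm (rU i), ip_comm (rU (sg i)), h j hj i hi e.le]
    exact congrArg _ (((if_neg e.ne).trans (if_neg fun h => h.2 rfl)).trans ((if_neg e.ne').trans (if_neg fun h => h.2 rfl)).symm)

set_option synthInstance.maxSize 1024 in
theorem en [Fintype K] {l : K → ℂ} (hl : Fl K l) : ∃ f ix, (∀ j < 45, Rp (f j) (rU j) (rU (sg j))) ∧
    En (center K) l 45 0 mm (fun _ => 0) (nth bl) f ix := by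
  choose! f hf using ex_row
  have hG : ∀ i : ℕ, i < 45 → ∀ j : ℕ, j < 45 → classInner (f i) (f j) = (gam mm (fun _ => 0) i j : ℤ) := fun i hi j hj =>
    (hf i hi).inner (hf j hj) (gram i hi j hj)
  have he : ∀ j : ℕ, j < 45 → f j 1 = (nth (rU j) 0 : ℤ) := fun j hj => xp_zero ▸ (hf j hj).vu 0 (by norm_num)
  have hl' := hl
  obtain ⟨μ, -, hμ⟩ := hl'
  obtain ⟨ix, h⟩ := enum_cov (k := 45) (ns := 0) (m := mm) (st := fun _ => 0) le_rfl μ hμ
    ⟨fun _ _ => le_rfl, fun _ _ h => absurd rfl h, fun _ h => absurd h (Nat.not_lt_zero _),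
      fun _ h => absurd h (Nat.not_lt_zero _)⟩ (by decide) f (fun j hj => (hf j hj).gen)
    (fun j hj => lo_two card_cen hl z_mem ext.zne (hf j hj).odd) hG (fun j => nth (rU j) 0) he (nth bl)
    (by (refine of_decide_eq_true ?_; (try (rewrite [Cfsg.Agent.LsF.f78bdbf_8.2, Cfsg.Agent.LsF.f78bdbf_9.2, Cfsg.Agent.LsF.imul_pat, Cfsg.Agent.LsF.fsum_eq, Cfsg.Agent.LsF.frange_eq, Cfsg.Agent.LsF.iACM_eq, Cfsg.Agent.LsF.instIDecEq_eq, Cfsg.Agent.LsF.dBallLT_eq, Cfsg.Agent.LsF.decide_eq])); decide +kernel)) (by rw [card_cen, card_K]; decide +kernel) fun j hj i hi _ _ h1 h2 χ s c hs hc => by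
      have hi' := hi.trans hj
      have h3 : ∀ j < 45, ∀ i < j, mm j = 2 → mm i = 2 → nth (rU j) 0 = nth (rU i) 0 ∨
          ((¬ nth (rU j) 0 + nth (rU i) 0 ∣ 2 * (2 * dat.N : ℕ)) ∧
            ¬ nth (rU j) 0 - nth (rU i) 0 ∣ 2 * (2 * dat.N : ℕ)) := by decide +kernel
      rcases h3 j hj i hi h1 h2 with h4 | h4
      · refine sep_eq (hf j hj).gen (by rw [he j hj, he i hi', h4]) ?_ ?_ χ s c hs hc
        · rw [hG j hj j hj, gam, if_pos rfl, h1]
          rfl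
        · rw [hG j hj i hi', gam, if_neg hi.ne', if_neg fun h => h.2 rfl, Int.cast_zero]
      · exact sep_deg (he j hj) (he i hi') (card_K ▸ h4.1) (card_K ▸ h4.2) χ s c hs hc
  exact ⟨f, ix, hf, h⟩

theorem kk_K (p : ℕ) {l : K → ℂ} (hl : Fl K l) : kk p ⊤ (center K) l =
    ∑ y ∈ Finset.range 45, if ¬ p ∣ (sdeg 45 (fun _ => 0) (nth bl) y).natAbs then mlt 45 mm (fun _ => 0) y else 0 := by
  have := finK
  have := Fintype.ofFinite K
  obtain ⟨f, ix, -, h⟩ := en hl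
  exact h.kk p

theorem fA_K {p : ℕ} (hp : ∀ y < 45, sg y = y → ¬ p ∣ (nth bl y).natAbs → mm y = 1) {l : K → ℂ} (hl : Fl K l) :
    fA p l al = ∑ y ∈ Finset.range 45,
      if ¬ p ∣ (sdeg 45 (fun _ => 0) (nth bl) y).natAbs ∧ sg y = y then mlt 45 mm (fun _ => 0) y else 0 := by
  have := finK
  have := Fintype.ofFinite K
  obtain ⟨f, ix, hf, h⟩ := en hl
  refine h.fA p al (fun y => sg y = y) fun χ h1 => ?_
  have h2 : ix χ < 45 := h.lt χ
  rw [sdeg, if_pos h2] at h1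
  have h3 : ((nth bl (ix χ)).sign : ℂ) ≠ 0 := by
    rw [Int.cast_ne_zero, Ne, Int.sign_eq_zero_iff_zero]
    intro e
    exact h1 (by rw [e]; exact dvd_zero p)
  have h4 : f (sg (ix χ)) = fun x => f (ix χ) (al x) :=
    (hf _ (sg_ok _ h2).1).uniq (by rw [(sg_ok _ h2).2]; exact (hf _ h2).tw)
  refine ⟨fun h5 => by_contra fun h6 => h3 ?_, fun h5 x => mul_left_cancel₀ h3 ?_⟩
  · have h7 := h.inn χ _ (sg_ok _ h2).1
    have h8 := h.inn χ _ h2
    have h9 := H829.GowDesc.classInner_comp_surj al.toMonoidHom al.surjective (f (ix χ)) (χ.1 : K → ℂ)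
    rw [sig, if_pos h2, if_neg h6, h4, Int.cast_zero] at h7
    rw [sig, if_pos h2, if_pos rfl, sdeg, if_pos h2] at h8
    rw [← h8, ← h9, show (χ.1 : K → ℂ) ∘ al.toMonoidHom = χ.1 from funext h5]
    exact h7
  · have h7 := h.eq_row χ h2 (hf _ h2).gen (by
      rw [(hf _ h2).inner (hf _ h2) (gram _ h2 _ h2), gam, if_pos rfl, hp _ h2 h5 h1]
      simp)
    rw [← h7, ← h7]
    rw [h5] at h4
    exact (congrFun h4 x).symm

theorem gk_of {p c : ℕ} (h : (∑ y ∈ Finset.range 45,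
    if ¬ p ∣ (sdeg 45 (fun _ => 0) (nth bl) y).natAbs then mlt 45 mm (fun _ => 0) y else 0) = c) :
    GK p 2 Spor.Fi22 c :=
  haveI := finK
  gk_of_iso (fun _ _ _ _ v => (iso v).elim fun e _ => ⟨e⟩) fun _ hl => (kk_K p hl).trans h

theorem gf_of {p c : ℕ} (hp : ∀ y < 45, sg y = y → ¬ p ∣ (nth bl y).natAbs → mm y = 1) (h : (∑ y ∈ Finset.range 45,
    if ¬ p ∣ (sdeg 45 (fun _ => 0) (nth bl) y).natAbs ∧ sg y = y then mlt 45 mm (fun _ => 0) y else 0) = c) :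
    GF p 2 Spor.Fi22 c :=
  haveI := finK
  gf_of_iso (fun _ _ _ _ v => (iso v).elim fun e _ => ⟨e⟩) fun α _ h1 l hl => by
    obtain ⟨x, h2 | rfl⟩ := aut_cases α
    · exact absurd ⟨x, h2⟩ h1
    · rw [T.fA_conj_mul, fA_K hp hl, h]

theorem gk3 : GK 3 2 Spor.Fi22 18 := gk_of (by decide +kernel)

theorem gf3 : GF 3 2 Spor.Fi22 4 := gf_of (by decide +kernel) (by decide +kernel)

theorem gk5 : GK 5 2 Spor.Fi22 20 := gk_of (by decide +kernel)

theorem gf5 : GF 5 2 Spor.Fi22 4 := gf_of (by decide +kernel) (by decide +kernel)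

end Cfsg.Agent.MO.S.F22T

private theorem dce_053c63bd044e : _root_.True := by
  try have : _root_.True := by simp only [_root_.Cfsg.Agent.TAB.F23.rows.eq_1]
  exact _root_.True.intro
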